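import Cfsg.Prelude.Def_KGroupFacts
import Mathlib.GroupTheory.Abelianization.Defs
import Mathlib.GroupTheory.FreeGroup.IsFreeGroup
import Mathlib.GroupTheory.Schreier
import Mathlib.LinearAlgebra.FreeModule.PID
import Mathlib.LinearAlgebra.FreeModule.Finite.Basic
import Mathlib.Algebra.Module.Projective
import Mathlib.Data.Finsupp.Basic
import Mathlib.RingTheory.PrincipalIdealDomain
import Mathlib.Algebra.EuclideanDomain.Int
import Mathlib.RingTheory.Noetherian.Basic
import Mathlib.LinearAlgebra.Finsupp.VectorSpace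

/-!
# The Schur multiplier of a group through free presentations

For a homomorphism `π : F →* Q` from a free group, `Cov π = F ⧸ [ker π, F]` maps onto the range of
`π` with central kernel, and `multSub π` is that kernel met with the commutator subgroup (Hopf's
formula). The universal property: homomorphisms into central extensions lift to `Cov π`, and two
lifts agree on the commutator subgroup.

`mult Q` is this group for the canonical presentation `FreeGroup Q →* Q`.

* `exists_cover`, `hasSchurMultiplier_mult`: every finite group has a Schur cover with kernel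
  `mult Q`.
* `hasSchurMultiplier_iff`: `HasSchurMultiplier Q A ↔ A ≃* mult Q` for finite `Q`.
* `map_multSub`: `ker τ ⊓ Δ'` is the image of `multSub π` for every central extension `τ`.
-/

set_option autoImplicit false
set_option linter.style.haveILetI false

namespace CfsgLib.SchurTheory

open Subgroup
open scoped commutatorElement

universe u v w

section Central

variable {E : Type*} {Δ : Type*} {Q : Type*} [Group E] [Group Δ] [Group Q]

/-- Central factors do not change a commutator. -/
theorem commutatorElement_mul_mem_center {x y c d : Δ} (hc : c ∈ center Δ) (hd : d ∈ center Δ) :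
    ⁅x * c, y * d⁆ = ⁅x, y⁆ := by
  rw [mem_center_iff] at hc hd
  simp only [commutatorElement_def, mul_inv_rev]
  calc x * c * (y * d) * (c⁻¹ * x⁻¹) * (d⁻¹ * y⁻¹)
      = x * (c * (y * d * c⁻¹)) * x⁻¹ * (d⁻¹ * y⁻¹) := by group
    _ = x * ((y * d * c⁻¹) * c) * x⁻¹ * (d⁻¹ * y⁻¹) := by rw [hc (y * d * c⁻¹)]
    _ = x * y * (d * x⁻¹) * (d⁻¹ * y⁻¹) := by group
    _ = x * y * (x⁻¹ * d) * (d⁻¹ * y⁻¹) := by rw [hd x⁻¹]
    _ = x * y * x⁻¹ * y⁻¹ := by group

/-- Two homomorphisms into a central extension with the same composite agree on commutators. -/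
theorem eqOn_commutator (τ : Δ →* Q) (hc : τ.ker ≤ center Δ) (φ₁ φ₂ : E →* Δ)
    (h : τ.comp φ₁ = τ.comp φ₂) {e : E} (he : e ∈ commutator E) : φ₁ e = φ₂ e := by
  refine (show commutator E ≤ φ₁.eqLocus φ₂ from ?_) he
  rw [commutator_def, commutator_le]
  intro a _ b _
  show φ₁ ⁅a, b⁆ = φ₂ ⁅a, b⁆
  have key : ∀ x : E, (φ₂ x)⁻¹ * φ₁ x ∈ center Δ := fun x => hc <| by
    rw [MonoidHom.mem_ker, map_mul, map_inv]
    have hx : τ (φ₁ x) = τ (φ₂ x) := DFunLike.congr_fun h x
    rw [hx, inv_mul_cancel]
  rw [map_commutatorElement, map_commutatorElement,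
    ← commutatorElement_mul_mem_center (x := φ₂ a) (y := φ₂ b) (key a) (key b),
    mul_inv_cancel_left, mul_inv_cancel_left]

/-- A lift of a surjection into a central extension covers the commutator subgroup. -/
theorem map_commutator_eq (τ : Δ →* Q) (hc : τ.ker ≤ center Δ) (φ : E →* Δ)
    (hs : Function.Surjective (τ.comp φ)) : (commutator E).map φ = commutator Δ := by
  refine le_antisymm ?_ ?_
  · rw [commutator_def, commutator_def, Subgroup.map_commutator]
    exact commutator_mono le_top le_top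
  rw [commutator_def Δ, commutator_le]
  intro a _ b _
  obtain ⟨x, hx⟩ := hs (τ a)
  obtain ⟨y, hy⟩ := hs (τ b)
  refine ⟨⁅x, y⁆, commutator_mem_commutator (mem_top x) (mem_top y), ?_⟩
  have key : ∀ (d : Δ) (z : E), τ (φ z) = τ d → (φ z)⁻¹ * d ∈ center Δ := fun d z hz => hc <| by
    rw [MonoidHom.mem_ker, map_mul, map_inv, hz, inv_mul_cancel]
  rw [map_commutatorElement,
    ← commutatorElement_mul_mem_center (x := φ x) (y := φ y) (key a x hx) (key b y hy),
    mul_inv_cancel_left, mul_inv_cancel_left]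

/-- The image of `ker ε ⊓ E'` under a lift is `ker τ ⊓ Δ'`. -/
theorem map_ker_inf_commutator (ε : E →* Q) (hε : Function.Surjective ε) (τ : Δ →* Q)
    (hc : τ.ker ≤ center Δ) (φ : E →* Δ) (h : τ.comp φ = ε) :
    (ε.ker ⊓ commutator E).map φ = τ.ker ⊓ commutator Δ := by
  have hm := map_commutator_eq τ hc φ (h ▸ hε)
  apply le_antisymm
  · rintro _ ⟨e, ⟨he1, he2⟩, rfl⟩
    refine ⟨?_, hm ▸ mem_map_of_mem φ he2⟩
    show τ (φ e) = 1
    rw [← MonoidHom.comp_apply, h]
    exact he1
  · rintro d ⟨hd1, hd2⟩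
    rw [SetLike.mem_coe, ← hm] at hd2
    obtain ⟨e, he, rfl⟩ := hd2
    refine ⟨e, ⟨?_, he⟩, rfl⟩
    show ε e = 1
    rw [← h]
    exact hd1

/-- A lift to a stem extension is surjective. -/
theorem lift_surjective (τ : Δ →* Q) (hτ : Cfsg.IsStemExtension τ) (φ : E →* Δ)
    (hs : Function.Surjective (τ.comp φ)) : Function.Surjective φ := by
  intro d
  obtain ⟨e, he⟩ := hs (τ d)
  have hk : (φ e)⁻¹ * d ∈ commutator Δ := hτ.2.2 <| by
    rw [MonoidHom.mem_ker, map_mul, map_inv, ← MonoidHom.comp_apply, he, inv_mul_cancel]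
  rw [← map_commutator_eq τ hτ.2.1 φ hs] at hk
  obtain ⟨c, -, hc⟩ := hk
  exact ⟨e * c, by rw [map_mul, hc, mul_inv_cancel_left]⟩

end Central

section Cov

variable {F : Type v} [Group F] {Q : Type u} [Group Q] (π : F →* Q)

/-- The relations `[R, F]`. -/
abbrev covRel : Subgroup F := ⁅π.ker, (⊤ : Subgroup F)⁆

/-- The free central extension `F ⧸ [R, F]`. -/
abbrev Cov : Type v := F ⧸ covRel π

theorem covRel_le_ker : covRel π ≤ π.ker := commutator_le_left π.ker ⊤

/-- The projection of `Cov π` to `Q`. -/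
def covMap : Cov π →* Q := QuotientGroup.lift (covRel π) π (covRel_le_ker π)

@[simp] theorem covMap_mk (x : F) : covMap π (QuotientGroup.mk x) = π x := rfl

theorem covMap_surjective (hπ : Function.Surjective π) : Function.Surjective (covMap π) :=
  fun q => by obtain ⟨x, rfl⟩ := hπ q; exact ⟨QuotientGroup.mk x, rfl⟩

theorem covMap_ker_le_center : (covMap π).ker ≤ center (Cov π) := by
  intro z hz
  obtain ⟨r, rfl⟩ := QuotientGroup.mk'_surjective (covRel π) z
  rw [mem_center_iff]
  intro y
  obtain ⟨x, rfl⟩ := QuotientGroup.mk'_surjective (covRel π) y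
  have hr : r ∈ π.ker := hz
  have h1 : QuotientGroup.mk' (covRel π) ⁅r, x⁆ = 1 :=
    (QuotientGroup.eq_one_iff _).mpr (commutator_mem_commutator hr (mem_top x))
  rw [map_commutatorElement, commutatorElement_eq_one_iff_mul_comm] at h1
  exact h1.symm

/-- Hopf's formula for the multiplier of the image of `π`. -/
def multSub : Subgroup (Cov π) := (covMap π).ker ⊓ commutator (Cov π)

theorem multSub_le_center : multSub π ≤ center (Cov π) :=
  inf_le_left.trans (covMap_ker_le_center π)

/-- `multSub π` is abelian. -/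
instance multSubCommGroup : CommGroup (multSub π) :=
  { (inferInstance : Group (multSub π)) with
    mul_comm := fun a b => Subtype.ext
      (mem_center_iff.mp (multSub_le_center π b.2) a.1) }

/-- `Cov π` maps to every central extension of a group receiving a map from `Q`. -/
theorem exists_lift [IsFreeGroup F] {Δ : Type w} [Group Δ] {P : Type*} [Group P] (τ : Δ →* P)
    (hc : τ.ker ≤ center Δ) (f : Q →* P) (hs : ∀ x : F, ∃ d, τ d = f (π x)) :
    ∃ φ : Cov π →* Δ, τ.comp φ = f.comp (covMap π) := by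
  let b := IsFreeGroup.basis F
  choose d hd using fun i => hs (b i)
  let φ : F →* Δ := b.lift d
  have hφ : τ.comp φ = f.comp π := b.ext_hom _ _ fun i => by
    show τ (φ (b i)) = f (π (b i))
    rw [← hd i]
    congr 1
    exact congrFun (b.lift.symm_apply_apply d) i
  have hker : covRel π ≤ φ.ker := by
    rw [covRel, commutator_le]
    intro r hr x _
    have h1 : φ r ∈ center Δ := hc <| by
      show τ (φ r) = 1
      rw [← MonoidHom.comp_apply, hφ, MonoidHom.comp_apply, MonoidHom.mem_ker.mp hr, map_one]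
    rw [MonoidHom.mem_ker, map_commutatorElement, commutatorElement_eq_one_iff_mul_comm]
    exact (mem_center_iff.mp h1 _).symm
  refine ⟨QuotientGroup.lift _ φ hker, ?_⟩
  ext x
  exact DFunLike.congr_fun hφ x

/-- The universal property for a central extension of `Q` itself. -/
theorem exists_lift' [IsFreeGroup F] {Δ : Type w} [Group Δ] (τ : Δ →* Q)
    (hs : Function.Surjective τ) (hc : τ.ker ≤ center Δ) :
    ∃ φ : Cov π →* Δ, τ.comp φ = covMap π := by
  obtain ⟨φ, hφ⟩ := exists_lift π τ hc (MonoidHom.id Q) (fun x => hs _)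
  exact ⟨φ, hφ.trans (MonoidHom.id_comp _)⟩

/-- `ker τ ⊓ Δ'` is the image of the multiplier, for every lift. -/
theorem map_multSub (hπ : Function.Surjective π) {Δ : Type w} [Group Δ] (τ : Δ →* Q)
    (hc : τ.ker ≤ center Δ) (φ : Cov π →* Δ) (h : τ.comp φ = covMap π) :
    (multSub π).map φ = τ.ker ⊓ commutator Δ :=
  map_ker_inf_commutator (covMap π) (covMap_surjective π hπ) τ hc φ h

theorem finite_commutator_cov [Finite Q] : Finite (commutator (Cov π)) := by
  haveI : (center (Cov π)).FiniteIndex := by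
    haveI : (covMap π).ker.FiniteIndex := by
      refine ⟨?_⟩
      rw [index_ker]
      exact Nat.card_pos.ne'
    exact Subgroup.finiteIndex_of_le (covMap_ker_le_center π)
  haveI : Finite (commutatorSet (Cov π)) := by
    obtain ⟨s, hs⟩ : ∃ s : Cov π ⧸ center (Cov π) → Cov π,
        ∀ q, QuotientGroup.mk (s q) = q :=
      ⟨Function.surjInv QuotientGroup.mk_surjective, Function.surjInv_eq _⟩
    refine (Set.Finite.subset (Set.finite_range
      (fun q : (Cov π ⧸ center (Cov π)) × (Cov π ⧸ center (Cov π)) => ⁅s q.1, s q.2⁆)) ?_).to_subtype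
    rintro _ ⟨a, b, rfl⟩
    refine ⟨(a, b), ?_⟩
    have key : ∀ x : Cov π, (s x)⁻¹ * x ∈ center (Cov π) := fun x =>
      QuotientGroup.eq.mp (hs (QuotientGroup.mk x))
    have := commutatorElement_mul_mem_center (x := s a) (y := s b) (key a) (key b)
    rw [mul_inv_cancel_left, mul_inv_cancel_left] at this
    exact this.symm
  infer_instance

instance finite_multSub [Finite Q] : Finite (multSub π) :=
  haveI := finite_commutator_cov π
  Finite.of_injective _ (Subgroup.inclusion_injective (inf_le_right :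
    multSub π ≤ commutator (Cov π)))

end Cov

section Independence

variable {F F' : Type*} [Group F] [Group F'] [IsFreeGroup F] [IsFreeGroup F']
  {Q : Type u} [Group Q] (π : F →* Q) (π' : F' →* Q)

/-- The multiplier does not depend on the free presentation. -/
theorem nonempty_multSub_mulEquiv (hπ : Function.Surjective π) (hπ' : Function.Surjective π') :
    Nonempty (multSub π ≃* multSub π') := by
  obtain ⟨φ, hφ⟩ := exists_lift' π (covMap π') (covMap_surjective π' hπ') (covMap_ker_le_center π')
  obtain ⟨ψ, hψ⟩ := exists_lift' π' (covMap π) (covMap_surjective π hπ) (covMap_ker_le_center π)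
  have h1 : ∀ x : multSub π, φ x.1 ∈ multSub π' := fun x => by
    have := mem_map_of_mem φ x.2
    rwa [map_multSub π hπ _ (covMap_ker_le_center π') φ hφ] at this
  have h2 : ∀ x : multSub π', ψ x.1 ∈ multSub π := fun x => by
    have := mem_map_of_mem ψ x.2
    rwa [map_multSub π' hπ' _ (covMap_ker_le_center π) ψ hψ] at this
  have h3 : ∀ x : multSub π, ψ (φ x.1) = x.1 := fun x => by
    refine eqOn_commutator (covMap π) (covMap_ker_le_center π) (ψ.comp φ) (MonoidHom.id _) ?_ x.2.2
    rw [← MonoidHom.comp_assoc, hψ, hφ, MonoidHom.comp_id]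
  have h4 : ∀ x : multSub π', φ (ψ x.1) = x.1 := fun x => by
    refine eqOn_commutator (covMap π') (covMap_ker_le_center π') (φ.comp ψ) (MonoidHom.id _) ?_
      x.2.2
    rw [← MonoidHom.comp_assoc, hφ, hψ, MonoidHom.comp_id]
  exact ⟨{ toFun := fun x => ⟨φ x.1, h1 x⟩
           invFun := fun x => ⟨ψ x.1, h2 x⟩
           left_inv := fun x => Subtype.ext (h3 x)
           right_inv := fun x => Subtype.ext (h4 x)
           map_mul' := fun x y => Subtype.ext (map_mul φ x.1 y.1) }⟩

end Independence

section Canonical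

variable (Q : Type u) [Group Q]

/-- The canonical free presentation. -/
abbrev canon : FreeGroup Q →* Q := FreeGroup.lift id

theorem canon_surjective : Function.Surjective (canon Q) :=
  fun q => ⟨FreeGroup.of q, FreeGroup.lift_apply_of⟩

/-- The Schur multiplier of `Q`. -/
abbrev mult : Type u := multSub (canon Q)

/-- A complement to the multiplier inside a subgroup `N` of the central kernel that maps onto the
kernel modulo commutators. -/
theorem exists_complement [Finite Q] (N : Subgroup (Cov (canon Q)))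
    (hN : N ≤ (covMap (canon Q)).ker)
    (hsurj : ∀ z ∈ (covMap (canon Q)).ker, ∃ m ∈ multSub (canon Q), z * m ∈ N) :
    ∃ L : Subgroup (Cov (canon Q)), L ≤ N ∧ L ⊓ commutator (Cov (canon Q)) = ⊥ ∧
      ∀ z ∈ (covMap (canon Q)).ker, ∃ m ∈ multSub (canon Q), z * m ∈ L := by
  classical
  -- exponent sums
  let ψ₀ : FreeGroup Q →* Multiplicative (Q →₀ ℤ) :=
    FreeGroup.lift fun q => Multiplicative.ofAdd (Finsupp.single q 1)
  let ψ : Cov (canon Q) →* Multiplicative (Q →₀ ℤ) := QuotientGroup.lift _ ψ₀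
    ((commutator_mono le_top le_top).trans (Abelianization.commutator_subset_ker ψ₀))
  let χ : (Q →₀ ℤ) →+ Additive (Abelianization (Cov (canon Q))) :=
    Finsupp.liftAddHom fun q => zmultiplesHom _
      (Additive.ofMul (Abelianization.of (QuotientGroup.mk (FreeGroup.of q))))
  have hχ : ∀ e, χ (ψ e).toAdd = Additive.ofMul (Abelianization.of e) := by
    have : (AddMonoidHom.toMultiplicativeLeft χ).comp ψ = Abelianization.of := by
      refine QuotientGroup.monoidHom_ext _ (FreeGroup.ext_hom _ _ fun q => ?_)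
      simp [ψ, ψ₀, χ]
    intro e
    exact DFunLike.congr_fun this e
  have hψker : ∀ e, ψ e = 1 → e ∈ commutator (Cov (canon Q)) := fun e he => by
    have h1 := hχ e
    rw [he, toAdd_one, map_zero] at h1
    rw [← Abelianization.ker_of]
    exact Additive.ofMul.injective h1.symm
  -- the restriction to `N`
  haveI : IsMulCommutative N := ⟨⟨fun a b => Subtype.ext
    (mem_center_iff.mp (covMap_ker_le_center _ (hN b.2)) a.1)⟩⟩
  letI : CommGroup N := { (inferInstance : Group N) with
    mul_comm := fun a b => Subtype.ext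
      (mem_center_iff.mp (covMap_ker_le_center _ (hN b.2)) a.1) }
  let f : Additive N →+ (Q →₀ ℤ) := MonoidHom.toAdditiveLeft (ψ.comp N.subtype)
  let fl : Additive N →ₗ[ℤ] (Q →₀ ℤ) := f.toIntLinearMap
  haveI : Module.Finite ℤ (LinearMap.range fl) := Module.Finite.of_fg (IsNoetherian.noetherian _)
  haveI : Module.Free ℤ (LinearMap.range fl) := Module.free_of_finite_type_torsion_free'
  obtain ⟨s, hs⟩ := LinearMap.exists_rightInverse_of_surjective fl.rangeRestrict
    (LinearMap.range_rangeRestrict fl)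
  let g : Multiplicative (LinearMap.range fl) →* N := AddMonoidHom.toMultiplicativeLeft
    s.toAddMonoidHom
  have hg : ∀ y, ψ (g y : Cov (canon Q)) = Multiplicative.ofAdd (y.toAdd : Q →₀ ℤ) := by
    intro y
    have h1 := congrArg Subtype.val (LinearMap.congr_fun hs y.toAdd)
    exact congrArg Multiplicative.ofAdd h1
  refine ⟨(N.subtype.comp g).range, ?_, ?_, ?_⟩
  · rintro _ ⟨y, rfl⟩
    exact (g y).2
  · rw [eq_bot_iff]
    rintro _ ⟨⟨y, rfl⟩, h2⟩
    have h3 : ψ (g y : Cov (canon Q)) = 1 := Abelianization.commutator_subset_ker ψ h2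
    rw [hg] at h3
    have h4 : y = 1 := Multiplicative.toAdd.injective (Subtype.ext h3)
    simp [h4]
  · intro z hz
    obtain ⟨m, hm, hzm⟩ := hsurj z hz
    let n : N := ⟨z * m, hzm⟩
    let y : Multiplicative (LinearMap.range fl) :=
      Multiplicative.ofAdd (fl.rangeRestrict (Additive.ofMul n))
    have hk : (z * m)⁻¹ * (g y : Cov (canon Q)) ∈ multSub (canon Q) := by
      refine ⟨?_, hψker _ ?_⟩
      · exact Subgroup.mul_mem _ (Subgroup.inv_mem _ (hN hzm)) (hN (g y).2)
      · rw [map_mul, map_inv, hg]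
        show (ψ (z * m))⁻¹ * ψ (z * m) = 1
        rw [inv_mul_cancel]
    refine ⟨m * ((z * m)⁻¹ * (g y : Cov (canon Q))), mul_mem hm hk, y, ?_⟩
    show (g y : Cov (canon Q)) = _
    group

variable {Q}

theorem covMap_ker_normal_of_le {L : Subgroup (Cov (canon Q))} (hL : L ≤ (covMap (canon Q)).ker) :
    L.Normal where
  conj_mem x hx g := by
    rw [mem_center_iff.mp (covMap_ker_le_center _ (hL hx)) g, mul_inv_cancel_right]
    exact hx

/-- A complement gives a stem extension with kernel the multiplier. -/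
theorem cover_of_complement [Finite Q] (L : Subgroup (Cov (canon Q))) [L.Normal]
    (hL : L ≤ (covMap (canon Q)).ker) (hint : L ⊓ commutator (Cov (canon Q)) = ⊥)
    (hsup : ∀ z ∈ (covMap (canon Q)).ker, ∃ m ∈ multSub (canon Q), z * m ∈ L) :
    Finite (Cov (canon Q) ⧸ L) ∧
      Cfsg.IsStemExtension (QuotientGroup.lift L (covMap (canon Q)) hL) ∧
      Nonempty ((QuotientGroup.lift L (covMap (canon Q)) hL).ker ≃* mult Q) := by
  set σ := QuotientGroup.lift L (covMap (canon Q)) hL with hσ
  have hmem : ∀ x ∈ σ.ker, ∃ m ∈ multSub (canon Q), QuotientGroup.mk' L m = x := by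
    intro x hx
    obtain ⟨z, rfl⟩ := QuotientGroup.mk'_surjective L x
    obtain ⟨m, hm, hzm⟩ := hsup z hx
    refine ⟨m⁻¹, inv_mem hm, ?_⟩
    rw [QuotientGroup.mk'_eq_mk']
    refine ⟨(m⁻¹)⁻¹ * z, ?_, by group⟩
    rw [inv_inv, ← mem_center_iff.mp (multSub_le_center _ hm) z]
    exact hzm
  let r : multSub (canon Q) →* σ.ker :=
    ((QuotientGroup.mk' L).comp (multSub (canon Q)).subtype).codRestrict σ.ker fun x => x.2.1
  have hr : Function.Bijective r := by
    refine ⟨(injective_iff_map_eq_one r).mpr fun x hx => ?_, fun x => ?_⟩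
    · have h1 : (x : Cov (canon Q)) ∈ L := (QuotientGroup.eq_one_iff _).mp (congrArg Subtype.val hx)
      exact Subtype.ext (Subgroup.mem_bot.mp (hint ▸ ⟨h1, x.2.2⟩))
    · obtain ⟨m, hm, e⟩ := hmem x x.2
      exact ⟨⟨m, hm⟩, Subtype.ext e⟩
  refine ⟨?_, ⟨?_, ?_, ?_⟩, ⟨(MulEquiv.ofBijective r hr).symm⟩⟩
  · haveI : Finite σ.ker := Finite.of_surjective r hr.2
    haveI : Finite ((Cov (canon Q) ⧸ L) ⧸ σ.ker) :=
      Finite.of_equiv _ (QuotientGroup.quotientKerEquivRange σ).symm.toEquiv
    exact Finite.of_subgroup_quotient σ.ker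
  · intro q
    obtain ⟨x, rfl⟩ := covMap_surjective _ (canon_surjective Q) q
    exact ⟨QuotientGroup.mk x, rfl⟩
  · intro x hx
    obtain ⟨m, hm, rfl⟩ := hmem x hx
    rw [mem_center_iff]
    intro y
    obtain ⟨y, rfl⟩ := QuotientGroup.mk'_surjective L y
    rw [← map_mul, ← map_mul, mem_center_iff.mp (multSub_le_center _ hm) y]
  · intro x hx
    obtain ⟨m, hm, rfl⟩ := hmem x hx
    have := mem_map_of_mem (QuotientGroup.mk' L) hm.2
    rw [commutator_def, Subgroup.map_commutator] at this
    exact commutator_mono le_top le_top this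

variable (Q)

/-- Every finite group has a stem extension with kernel its multiplier. -/
theorem exists_cover [Finite Q] : ∃ (Γ : Type u) (_ : Group Γ) (_ : Finite Γ) (σ : Γ →* Q),
    Cfsg.IsStemExtension σ ∧ Nonempty (σ.ker ≃* mult Q) := by
  obtain ⟨L, hL, hint, hsup⟩ := exists_complement Q _ le_rfl
    fun z hz => ⟨1, one_mem _, by rwa [mul_one]⟩
  haveI := covMap_ker_normal_of_le hL
  obtain ⟨hfin, h1, h2⟩ := cover_of_complement L hL hint hsup
  exact ⟨_, inferInstance, hfin, _, h1, h2⟩

variable {Q}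

/-- The multiplier maps onto `ker τ ⊓ Δ'` for every central extension. -/
theorem exists_mult_surjective {Δ : Type w} [Group Δ] (τ : Δ →* Q) (hs : Function.Surjective τ)
    (hc : τ.ker ≤ center Δ) :
    ∃ f : mult Q →* (τ.ker ⊓ commutator Δ : Subgroup Δ), Function.Surjective f := by
  obtain ⟨φ, hφ⟩ := exists_lift' (canon Q) τ hs hc
  have hm := map_multSub (canon Q) (canon_surjective Q) τ hc φ hφ
  refine ⟨(φ.comp (multSub (canon Q)).subtype).codRestrict _
    fun x => hm ▸ mem_map_of_mem φ x.2, fun y => ?_⟩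
  obtain ⟨x, hx, e⟩ : (y : Δ) ∈ (multSub (canon Q)).map φ := hm.ge y.2
  exact ⟨⟨x, hx⟩, Subtype.ext e⟩

/-- The multiplier maps onto the kernel of every stem extension. -/
theorem exists_mult_surjective_stem {Δ : Type w} [Group Δ] (τ : Δ →* Q)
    (hτ : Cfsg.IsStemExtension τ) : ∃ f : mult Q →* τ.ker, Function.Surjective f := by
  obtain ⟨f, hf⟩ := exists_mult_surjective τ hτ.1 hτ.2.1
  refine ⟨(MulEquiv.subgroupCongr (inf_eq_left.mpr hτ.2.2)).toMonoidHom.comp f, ?_⟩
  exact (MulEquiv.subgroupCongr (inf_eq_left.mpr hτ.2.2)).surjective.comp hf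

variable (Q)

/-- `mult Q` is the Schur multiplier of the finite group `Q`. -/
theorem hasSchurMultiplier_mult [Finite Q] : Cfsg.HasSchurMultiplier Q (mult Q) :=
  ⟨exists_cover Q, fun _ _ _ σ hσ => exists_mult_surjective_stem σ hσ⟩

variable {Q}

/-- Finite groups mapping onto each other are isomorphic. -/
theorem nonempty_mulEquiv_of_surjective_surjective {A B : Type*} [Group A] [Group B] [Finite A]
    (f : A →* B) (hf : Function.Surjective f) (g : B →* A) (hg : Function.Surjective g) :
    Nonempty (A ≃* B) := by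
  haveI : Finite B := Finite.of_surjective f hf
  have hcard : Nat.card A = Nat.card B :=
    le_antisymm (Nat.card_le_card_of_surjective g hg) (Nat.card_le_card_of_surjective f hf)
  exact ⟨MulEquiv.ofBijective f ((Nat.bijective_iff_surjective_and_card f).mpr ⟨hf, hcard⟩)⟩

/-- `A` is the Schur multiplier exactly when it is isomorphic to `mult Q`. -/
theorem hasSchurMultiplier_iff [Finite Q] {A : Type*} [CommGroup A] :
    Cfsg.HasSchurMultiplier Q A ↔ Nonempty (A ≃* mult Q) := by
  constructor
  · rintro ⟨⟨Γ, _, _, σ, hσ, ⟨e⟩⟩, hmax⟩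
    haveI : Finite A := Finite.of_equiv _ e.toEquiv
    obtain ⟨Γ', _, _, σ', hσ', ⟨e'⟩⟩ := exists_cover Q
    obtain ⟨f, hf⟩ := hmax Γ' σ' hσ'
    obtain ⟨g, hg⟩ := exists_mult_surjective_stem σ hσ
    exact nonempty_mulEquiv_of_surjective_surjective (e'.toMonoidHom.comp f)
      (e'.surjective.comp hf) (e.toMonoidHom.comp g) (e.surjective.comp hg)
  · rintro ⟨e⟩
    refine ⟨?_, fun Γ _ _ σ hσ => ?_⟩
    · obtain ⟨Γ, _, _, σ, hσ, ⟨e'⟩⟩ := exists_cover Q
      exact ⟨Γ, inferInstance, inferInstance, σ, hσ, ⟨e'.trans e.symm⟩⟩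
    · obtain ⟨f, hf⟩ := exists_mult_surjective_stem σ hσ
      exact ⟨f.comp e.toMonoidHom, hf.comp e.surjective⟩

/-- The multiplier of `Q` computed from any free presentation. -/
theorem hasSchurMultiplier_multSub [Finite Q] {F : Type*} [Group F] [IsFreeGroup F] (π : F →* Q)
    (hπ : Function.Surjective π) : Cfsg.HasSchurMultiplier Q (multSub π) :=
  hasSchurMultiplier_iff.mpr (nonempty_multSub_mulEquiv π (canon Q) hπ (canon_surjective Q))

/-- `ker τ ⊓ Δ'` is no larger than the multiplier. -/
theorem card_ker_inf_dvd [Finite Q] {Δ : Type w} [Group Δ] (τ : Δ →* Q)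
    (hs : Function.Surjective τ) (hc : τ.ker ≤ center Δ) :
    Nat.card (τ.ker ⊓ commutator Δ : Subgroup Δ) ∣ Nat.card (mult Q) := by
  obtain ⟨f, hf⟩ := exists_mult_surjective τ hs hc
  exact Subgroup.card_dvd_of_surjective f hf

/-- Criterion for a cyclic multiplier. -/
theorem hasCyclicSchurMultiplier_iff [Finite Q] {n : ℕ} [NeZero n] :
    Cfsg.HasCyclicSchurMultiplier Q n ↔ IsCyclic (mult Q) ∧ Nat.card (mult Q) = n := by
  have hn : Nat.card (Multiplicative (ZMod n)) = n := by
    rw [Nat.card_congr Multiplicative.toAdd, Nat.card_zmod]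
  rw [Cfsg.HasCyclicSchurMultiplier, hasSchurMultiplier_iff]
  constructor
  · rintro ⟨e⟩
    exact ⟨e.isCyclic.mp inferInstance, (Nat.card_congr e.toEquiv).symm.trans hn⟩
  · rintro ⟨h1, h2⟩
    exact ⟨mulEquivOfCyclicCardEq (hn.trans h2.symm)⟩

/-- Criterion for a trivial multiplier. -/
theorem hasCyclicSchurMultiplier_one_iff [Finite Q] :
    Cfsg.HasCyclicSchurMultiplier Q 1 ↔ multSub (canon Q) = ⊥ := by
  rw [hasCyclicSchurMultiplier_iff, ← Subgroup.card_eq_one]
  refine ⟨fun h => h.2, fun h => ⟨?_, h⟩⟩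
  haveI : Subsingleton (mult Q) := (Nat.card_eq_one_iff_unique.mp h).1
  infer_instance

end Canonical

end CfsgLib.SchurTheory
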