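import Cfsg.Agent.SchurTheory.Covers
import Mathlib.RingTheory.Int.Basic

/-!
# Uniqueness of Schur covers over the group

Schur covers are pairwise isomorphic over `Q` iff every homomorphism from a complement of the
multiplier in the central kernel to the multiplier extends to the free central extension, iff the
orders of `Qᵃᵇ` and of the multiplier are coprime.
-/

set_option autoImplicit false
set_option linter.style.haveILetI false

namespace CfsgLib.SchurTheory

open Subgroup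

universe u v w

variable {Q : Type u} [Group Q]

/-- If every element has a power of exponent `d` in `A`, homomorphisms from `A` to groups of order
coprime to `d` extend. -/
theorem exists_extend_of_coprime {B : Type*} [CommGroup B] (A : Subgroup B) (d : ℕ)
    (hd : ∀ b : B, b ^ d ∈ A) {M : Type*} [CommGroup M] [Finite M]
    (hcop : (Nat.card M).Coprime d) (f : A →* M) : ∃ η : B →* M, ∀ a : A, η a = f a := by
  let e : M ≃* M := MulEquiv.ofBijective (powMonoidHom d : M →* M) (powCoprime hcop).bijective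
  let pw : B →* A := (powMonoidHom d : B →* B).codRestrict A hd
  refine ⟨e.symm.toMonoidHom.comp (f.comp pw), fun a => ?_⟩
  rw [MonoidHom.comp_apply, MonoidHom.comp_apply, MulEquiv.coe_toMonoidHom,
    MulEquiv.symm_apply_eq]
  show f (pw a) = (f a) ^ d
  rw [← map_pow]
  rfl

/-- The power `|Qᵃᵇ|` of an element of the free central extension lies in the kernel times the
commutator subgroup. -/
theorem pow_card_abelianization_mem (x : Cov (canon Q)) :
    ∃ c ∈ commutator (Cov (canon Q)), c⁻¹ * x ^ Nat.card (Abelianization Q) ∈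
      (covMap (canon Q)).ker := by
  have hq : covMap (canon Q) (x ^ Nat.card (Abelianization Q)) ∈ commutator Q := by
    rw [← Abelianization.ker_of, MonoidHom.mem_ker, map_pow, map_pow]
    exact pow_card_eq_one'
  have hm : (commutator (Cov (canon Q))).map (covMap (canon Q)) = commutator Q := by
    rw [_root_.commutator_def, Subgroup.map_commutator,
      map_top_of_surjective _ (covMap_surjective _ (canon_surjective Q)), ← _root_.commutator_def]
  obtain ⟨c, hc, e⟩ := hm.ge hq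
  exact ⟨c, hc, by rw [MonoidHom.mem_ker, map_mul, map_inv, e, inv_mul_cancel]⟩

/-- If the order of `Qᵃᵇ` is coprime to that of the multiplier, Schur covers are isomorphic over
`Q`. -/
theorem exists_iso_of_coprime [Finite Q] (hcop : (Nat.card (Abelianization Q)).Coprime
      (Nat.card (mult Q)))
    {Γ₁ : Type v} {Γ₂ : Type w} [Group Γ₁] [Group Γ₂] [Finite Γ₁] [Finite Γ₂]
    (σ₁ : Γ₁ →* Q) (σ₂ : Γ₂ →* Q) (h₁ : Cfsg.IsStemExtension σ₁) (h₂ : Cfsg.IsStemExtension σ₂)
    (e₁ : σ₁.ker ≃* mult Q) (e₂ : σ₂.ker ≃* mult Q) :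
    ∃ e : Γ₁ ≃* Γ₂, σ₂.comp e.toMonoidHom = σ₁ := by
  obtain ⟨φ₁, hφ₁⟩ := exists_lift' (canon Q) σ₁ h₁.1 h₁.2.1
  obtain ⟨φ₂, hφ₂⟩ := exists_lift' (canon Q) σ₂ h₂.1 h₂.2.1
  have hs₁ : Function.Surjective φ₁ :=
    lift_surjective σ₁ h₁ φ₁ (hφ₁ ▸ covMap_surjective _ (canon_surjective Q))
  have hint := inf_eq_bot_of_ker_equiv σ₁ h₁ φ₁ hφ₁ e₁
  letI : CommGroup σ₂.ker := { (inferInstance : Group σ₂.ker) with
    mul_comm := fun a b => Subtype.ext (mem_center_iff.mp (h₂.2.1 b.2) a.1) }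
  let fL : φ₁.ker →* σ₂.ker := (φ₂.comp φ₁.ker.subtype).codRestrict _ fun x => by
    rw [MonoidHom.mem_ker, ← MonoidHom.comp_apply, ← MonoidHom.comp_assoc, hφ₂, ← hφ₁,
      MonoidHom.comp_apply, MonoidHom.comp_apply, Subgroup.subtype_apply,
      MonoidHom.mem_ker.mp x.2, map_one]
  let f : φ₁.ker →* Abelianization (Cov (canon Q)) := Abelianization.of.comp φ₁.ker.subtype
  have hf : Function.Injective f := by
    rw [injective_iff_map_eq_one]
    intro x hx
    have hx' : (x : Cov (canon Q)) ∈ commutator (Cov (canon Q)) := by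
      rw [← Abelianization.ker_of]; exact hx
    exact Subtype.ext (mem_bot.mp (hint ▸ mem_inf.mpr ⟨x.2, hx'⟩))
  have hd : ∀ b, b ^ Nat.card (Abelianization Q) ∈ f.range := by
    intro b
    obtain ⟨x, rfl⟩ := QuotientGroup.mk_surjective b
    obtain ⟨c, hc, hz⟩ := pow_card_abelianization_mem x
    have hm : (commutator (Cov (canon Q))).map φ₁ = commutator Γ₁ := by
      rw [_root_.commutator_def, Subgroup.map_commutator, map_top_of_surjective _ hs₁,
        ← _root_.commutator_def]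
    have hz' : φ₁ (c⁻¹ * x ^ Nat.card (Abelianization Q)) ∈ σ₁.ker := by
      rw [MonoidHom.mem_ker, ← MonoidHom.comp_apply, hφ₁]; exact hz
    obtain ⟨c', hc', ec⟩ := hm.ge (h₁.2.2 hz')
    have hl : c'⁻¹ * (c⁻¹ * x ^ Nat.card (Abelianization Q)) ∈ φ₁.ker := by
      rw [MonoidHom.mem_ker, map_mul, map_inv, ec, inv_mul_cancel]
    refine ⟨⟨_, hl⟩, ?_⟩
    show Abelianization.of (c'⁻¹ * (c⁻¹ * x ^ Nat.card (Abelianization Q))) =
      Abelianization.of x ^ Nat.card (Abelianization Q)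
    have h0 : ∀ y ∈ commutator (Cov (canon Q)), Abelianization.of y = 1 := fun y hy => by
      rw [← MonoidHom.mem_ker, Abelianization.ker_of]; exact hy
    rw [map_mul, map_mul, map_inv, map_inv, h0 c hc, h0 c' hc', map_pow, inv_one, one_mul,
      one_mul]
  obtain ⟨η, hη⟩ := exists_extend_of_coprime f.range _ hd
    (by rw [Nat.card_congr e₂.toEquiv]; exact hcop.symm)
    (fL.comp (MonoidHom.ofInjective hf).symm.toMonoidHom)
  let θ : Cov (canon Q) →* Γ₂ :=
    MonoidHom.mk' (fun x => φ₂ x * ((η (Abelianization.of x))⁻¹ : σ₂.ker).1) fun a b => by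
      simp only [map_mul, mul_inv, Subgroup.coe_mul]
      set u := ((η (Abelianization.of a))⁻¹ : σ₂.ker)
      set v := ((η (Abelianization.of b))⁻¹ : σ₂.ker)
      calc φ₂ a * φ₂ b * (u.1 * v.1) = φ₂ a * (φ₂ b * u.1) * v.1 := by group
        _ = φ₂ a * u.1 * (φ₂ b * v.1) := by
          rw [mem_center_iff.mp (h₂.2.1 u.2) (φ₂ b)]; group
  have hker : φ₁.ker ≤ θ.ker := fun x hx => by
    show φ₂ x * ((η (f ⟨x, hx⟩))⁻¹ : σ₂.ker).1 = 1
    have e := hη (MonoidHom.ofInjective hf ⟨x, hx⟩)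
    rw [MonoidHom.comp_apply, MulEquiv.coe_toMonoidHom, MulEquiv.symm_apply_apply] at e
    rw [show η (f ⟨x, hx⟩) = fL ⟨x, hx⟩ from e, Subgroup.coe_inv]
    exact mul_inv_cancel _
  let ψ := φ₁.liftOfSurjective hs₁ ⟨θ, hker⟩
  have hψ : σ₂.comp ψ = σ₁ := by
    ext g
    obtain ⟨x, rfl⟩ := hs₁ g
    rw [MonoidHom.comp_apply, show ψ (φ₁ x) = θ x from
      φ₁.liftOfRightInverse_comp_apply _ _ ⟨θ, hker⟩ x]
    show σ₂ (φ₂ x * ((η (Abelianization.of x))⁻¹ : σ₂.ker).1) = σ₁ (φ₁ x)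
    rw [map_mul, MonoidHom.mem_ker.mp ((η (Abelianization.of x))⁻¹ : σ₂.ker).2, mul_one,
      ← MonoidHom.comp_apply, hφ₂, ← hφ₁]
    rfl
  have hψs : Function.Surjective ψ := lift_surjective σ₂ h₂ ψ (hψ ▸ h₁.1)
  have hcard : ∀ {Γ : Type _} [Group Γ] (σ : Γ →* Q), Function.Surjective σ →
      Nat.card Γ = Nat.card Q * Nat.card σ.ker := by
    intro Γ _ σ hσ
    rw [← Subgroup.index_mul_card σ.ker, Subgroup.index_ker, MonoidHom.range_eq_top.mpr hσ,
      Subgroup.card_top]
  have hc : Nat.card Γ₁ = Nat.card Γ₂ := by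
    rw [hcard σ₁ h₁.1, ← Subgroup.index_mul_card σ₂.ker, Subgroup.index_ker,
      MonoidHom.range_eq_top.mpr h₂.1, Subgroup.card_top, Nat.card_congr e₁.toEquiv,
      Nat.card_congr e₂.toEquiv]
  exact ⟨MulEquiv.ofBijective ψ ((Nat.bijective_iff_surjective_and_card ψ).mpr ⟨hψs, hc⟩), hψ⟩

/-- If Schur covers are unique over `Q`, the order of `Qᵃᵇ` is coprime to that of the multiplier. -/
theorem coprime_of_forall_iso [Finite Q]
    (H : ∀ (Γ₁ Γ₂ : Type u) [Group Γ₁] [Finite Γ₁] [Group Γ₂] [Finite Γ₂]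
      (σ₁ : Γ₁ →* Q) (σ₂ : Γ₂ →* Q), Cfsg.IsStemExtension σ₁ → Cfsg.IsStemExtension σ₂ →
      Nonempty (σ₁.ker ≃* mult Q) → Nonempty (σ₂.ker ≃* mult Q) →
      ∃ e : Γ₁ ≃* Γ₂, σ₂.comp e.toMonoidHom = σ₁) :
    (Nat.card (Abelianization Q)).Coprime (Nat.card (mult Q)) := by
  classical
  by_contra hnc
  obtain ⟨p, hp, hpQ, hpM⟩ := Nat.Prime.not_coprime_iff_dvd.mp hnc
  haveI := Fact.mk hp
  set R := (covMap (canon Q)).ker
  have hRc : R ≤ center _ := covMap_ker_le_center _
  obtain ⟨L, hL, hint, hsup⟩ := exists_complement Q R le_rfl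
    fun z hz => ⟨1, one_mem _, by rwa [mul_one]⟩
  haveI := covMap_ker_normal_of_le hL
  -- exponent sums
  let ψ₀ : FreeGroup Q →* Multiplicative (Q →₀ ℤ) :=
    FreeGroup.lift fun q => Multiplicative.ofAdd (Finsupp.single q 1)
  let ψ : Cov (canon Q) →* Multiplicative (Q →₀ ℤ) := QuotientGroup.lift _ ψ₀
    ((commutator_mono le_top le_top).trans (Abelianization.commutator_subset_ker ψ₀))
  let χ : (Q →₀ ℤ) →+ Additive (Abelianization (Cov (canon Q))) :=
    Finsupp.liftAddHom fun q => zmultiplesHom _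
      (Additive.ofMul (Abelianization.of (QuotientGroup.mk (FreeGroup.of q))))
  have hψker : ∀ e, ψ e = 1 → e ∈ commutator (Cov (canon Q)) := fun e he => by
    have : (AddMonoidHom.toMultiplicativeLeft χ).comp ψ = Abelianization.of := by
      refine QuotientGroup.monoidHom_ext _ (FreeGroup.ext_hom _ _ fun q => ?_)
      simp [ψ, ψ₀, χ]
    rw [← Abelianization.ker_of, MonoidHom.mem_ker, ← this, MonoidHom.comp_apply, he, map_one]
  haveI : IsMulCommutative L := ⟨⟨fun a b => Subtype.ext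
    (mem_center_iff.mp (hRc (hL b.2)) a.1)⟩⟩
  letI : CommGroup L := { (inferInstance : Group L) with
    mul_comm := fun a b => Subtype.ext (mem_center_iff.mp (hRc (hL b.2)) a.1) }
  let fl : Additive L →ₗ[ℤ] (Q →₀ ℤ) :=
    (MonoidHom.toAdditiveLeft (ψ.comp L.subtype)).toIntLinearMap
  haveI : Module.Finite ℤ (LinearMap.range fl) := Module.Finite.of_fg (IsNoetherian.noetherian _)
  haveI : Module.Free ℤ (LinearMap.range fl) := Module.free_of_finite_type_torsion_free'
  let b := Module.Free.chooseBasis ℤ (LinearMap.range fl)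
  -- an element of order `p` of the abelianization
  haveI : Finite (Abelianization Q) := Finite.of_surjective Abelianization.of QuotientGroup.mk_surjective
  obtain ⟨q, hq⟩ := exists_prime_orderOf_dvd_card' (G := Abelianization Q) p hpQ
  obtain ⟨q', rfl⟩ := QuotientGroup.mk_surjective q
  obtain ⟨e, rfl⟩ := covMap_surjective _ (canon_surjective Q) q'
  -- an element of the multiplier that is no `p`-th power
  obtain ⟨m₀, hm₀⟩ : ∃ m₀ : mult Q, ∀ y : mult Q, y ^ p ≠ m₀ := by
    by_contra hne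
    simp only [ne_eq, not_exists, not_forall, not_not] at hne
    have hinj : Function.Injective fun y : mult Q => y ^ p :=
      Finite.injective_iff_surjective.mpr hne
    obtain ⟨x, hx⟩ := exists_prime_orderOf_dvd_card' (G := mult Q) p hpM
    have : x = 1 := hinj (show x ^ p = (1 : mult Q) ^ p by rw [one_pow, ← hx, pow_orderOf_eq_one])
    rw [this, orderOf_one] at hx
    exact hp.one_lt.ne hx
  -- `e ^ p` modulo commutators
  obtain ⟨c, hc, l₀, hl₀, hel⟩ : ∃ c ∈ commutator (Cov (canon Q)), ∃ l₀ ∈ L, e ^ p = c * l₀ := by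
    have hq : covMap (canon Q) (e ^ p) ∈ commutator Q := by
      rw [← Abelianization.ker_of, MonoidHom.mem_ker, map_pow, map_pow, ← hq]
      exact pow_orderOf_eq_one _
    have hm : (commutator (Cov (canon Q))).map (covMap (canon Q)) = commutator Q := by
      rw [_root_.commutator_def, Subgroup.map_commutator,
        map_top_of_surjective _ (covMap_surjective _ (canon_surjective Q)), ← _root_.commutator_def]
    obtain ⟨c, hc, ec⟩ := hm.ge hq
    have hz : c⁻¹ * e ^ p ∈ R := by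
      rw [MonoidHom.mem_ker, map_mul, map_inv, ec, inv_mul_cancel]
    obtain ⟨m, hm, hzm⟩ := hsup _ hz
    refine ⟨c * m⁻¹, mul_mem hc (inv_mem hm.2), c⁻¹ * e ^ p * m, hzm, ?_⟩
    have := mem_center_iff.mp (multSub_le_center _ hm) (c⁻¹ * e ^ p)
    rw [this]
    group
  let v₀ : LinearMap.range fl := ⟨fl (Additive.ofMul ⟨l₀, hl₀⟩), ⟨_, rfl⟩⟩
  have hψ1 : ∀ y ∈ commutator (Cov (canon Q)), ψ y = 1 := fun y hy =>
    Abelianization.commutator_subset_ker ψ hy
  obtain ⟨i, hi⟩ : ∃ i, ¬ (p : ℤ) ∣ b.repr v₀ i := by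
    by_contra hne
    simp only [not_exists, not_not] at hne
    -- then `v₀` is a multiple of `p`, so `e` is trivial modulo commutators and `L`
    choose k hk using hne
    obtain ⟨u, hu⟩ : ∃ u : LinearMap.range fl, v₀ = (p : ℤ) • u := by
      refine ⟨∑ j ∈ (b.repr v₀).support, k j • b j, ?_⟩
      conv_lhs => rw [← b.linearCombination_repr v₀, Finsupp.linearCombination_apply]
      rw [Finsupp.sum, Finset.smul_sum]
      exact Finset.sum_congr rfl fun j _ => by rw [hk j, mul_smul]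
    obtain ⟨y, hy⟩ := u.2
    have h1 : fl (Additive.ofMul ⟨l₀, hl₀⟩) = (p : ℤ) • Multiplicative.toAdd (ψ e) := by
      have h2 : ψ (e ^ p) = ψ l₀ := by rw [hel, map_mul, hψ1 c hc, one_mul]
      rw [map_pow] at h2
      show Multiplicative.toAdd (ψ l₀) = _
      rw [← h2, toAdd_pow, natCast_zsmul]
    have h3 : Multiplicative.toAdd (ψ e) = Multiplicative.toAdd (ψ (Additive.toMul y).1) := by
      refine smul_right_injective _ (Int.natCast_ne_zero.mpr hp.ne_zero) ?_
      show (p : ℤ) • Multiplicative.toAdd (ψ e) = (p : ℤ) • Multiplicative.toAdd (ψ _)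
      rw [← h1]
      have := congrArg Subtype.val hu
      rw [Submodule.coe_smul, ← hy] at this
      exact this
    have h4 : ((Additive.toMul y).1)⁻¹ * e ∈ commutator (Cov (canon Q)) :=
      hψker _ (by rw [map_mul, map_inv, Multiplicative.toAdd.injective h3, inv_mul_cancel])
    have h5 := mem_map_of_mem (covMap (canon Q)) h4
    rw [_root_.commutator_def, Subgroup.map_commutator] at h5
    have h6 := commutator_mono le_top le_top h5
    rw [map_mul, map_inv, MonoidHom.mem_ker.mp (hL (Additive.toMul y).2), inv_one, one_mul] at h6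
    have h7 : Abelianization.of (covMap (canon Q) e) = 1 := by
      rw [← MonoidHom.mem_ker, Abelianization.ker_of]; exact h6
    exact hp.one_lt.ne ((orderOf_eq_one_iff.mpr h7).symm.trans hq)
  let K : Additive L →ₗ[ℤ] ℤ :=
    (Finsupp.lapply i).comp (b.repr.toLinearMap.comp fl.rangeRestrict)
  let w : L →* mult Q := MonoidHom.mk' (fun l => m₀ ^ K (Additive.ofMul l)) fun x y => by
    rw [ofMul_mul, map_add, zpow_add]
  -- the twisted complement
  let t : L →* Cov (canon Q) := MonoidHom.mk' (fun l => l.1 * ((w l)⁻¹ : mult Q).1) fun x y => by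
    simp only [map_mul, mul_inv, Subgroup.coe_mul]
    set u := ((w x)⁻¹ : mult Q)
    set v := ((w y)⁻¹ : mult Q)
    calc x.1 * y.1 * (u.1 * v.1) = x.1 * (y.1 * u.1) * v.1 := by group
      _ = x.1 * u.1 * (y.1 * v.1) := by
        rw [mem_center_iff.mp (multSub_le_center _ u.2) y.1]; group
  have hL' : t.range ≤ R := by
    rintro _ ⟨l, rfl⟩
    exact mul_mem (hL l.2) ((w l)⁻¹ : mult Q).2.1
  have hint' : t.range ⊓ commutator (Cov (canon Q)) = ⊥ := by
    rw [eq_bot_iff]
    rintro _ ⟨⟨l, rfl⟩, h⟩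
    have h1 : l.1 ∈ commutator (Cov (canon Q)) := by
      have := mul_mem h (w l).2.2
      rwa [MonoidHom.mk'_apply, mul_assoc, ← Subgroup.coe_mul, inv_mul_cancel, Subgroup.coe_one,
        mul_one] at this
    have h2 : l = 1 := Subtype.ext (mem_bot.mp (hint ▸ mem_inf.mpr ⟨l.2, h1⟩))
    rw [h2, map_one]
    exact one_mem _
  have hsup' : ∀ z ∈ R, ∃ m ∈ multSub (canon Q), z * m ∈ t.range := fun z hz => by
    obtain ⟨m, hm, hzm⟩ := hsup z hz
    refine ⟨m * ((w ⟨z * m, hzm⟩)⁻¹ : mult Q).1, mul_mem hm ((w ⟨z * m, hzm⟩)⁻¹ : mult Q).2,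
      ⟨z * m, hzm⟩, ?_⟩
    show z * m * ((w ⟨z * m, hzm⟩)⁻¹ : mult Q).1 = _
    rw [mul_assoc]
  haveI := covMap_ker_normal_of_le hL'
  obtain ⟨hfin, hσ, hk⟩ := cover_of_complement L hL hint hsup
  obtain ⟨hfin', hσ', hk'⟩ := cover_of_complement t.range hL' hint' hsup'
  haveI := hfin
  haveI := hfin'
  set σ := QuotientGroup.lift L (covMap (canon Q)) hL
  set σ' := QuotientGroup.lift t.range (covMap (canon Q)) hL' with hσdef
  obtain ⟨g, hg⟩ := H _ _ σ σ' hσ hσ' hk hk'
  -- comparing the two lifts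
  let φ : Cov (canon Q) →* Cov (canon Q) ⧸ t.range :=
    g.toMonoidHom.comp (QuotientGroup.mk' L)
  let φ' : Cov (canon Q) →* Cov (canon Q) ⧸ t.range := QuotientGroup.mk' t.range
  have hφ : ∀ x, σ' (φ x) = σ' (φ' x) := fun x => DFunLike.congr_fun hg (QuotientGroup.mk x)
  letI : CommGroup σ'.ker := { (inferInstance : Group σ'.ker) with
    mul_comm := fun a b => Subtype.ext (mem_center_iff.mp (hσ'.2.1 b.2) a.1) }
  let η : Cov (canon Q) →* σ'.ker :=
    MonoidHom.mk' (fun x => ⟨(φ x)⁻¹ * φ' x, by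
      rw [MonoidHom.mem_ker, map_mul, map_inv, hφ, inv_mul_cancel]⟩) fun x y => Subtype.ext <| by
      have hx : (φ x)⁻¹ * φ' x ∈ center _ := hσ'.2.1 (by
        rw [MonoidHom.mem_ker, map_mul, map_inv, hφ, inv_mul_cancel])
      show (φ (x * y))⁻¹ * φ' (x * y) = (φ x)⁻¹ * φ' x * ((φ y)⁻¹ * φ' y)
      rw [map_mul, map_mul, mul_inv_rev]
      calc (φ y)⁻¹ * (φ x)⁻¹ * (φ' x * φ' y) = (φ y)⁻¹ * ((φ x)⁻¹ * φ' x) * φ' y := by group
        _ = (φ x)⁻¹ * φ' x * ((φ y)⁻¹ * φ' y) := by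
          rw [mem_center_iff.mp hx (φ y)⁻¹]; group
  let r : mult Q →* σ'.ker :=
    (φ'.comp (multSub (canon Q)).subtype).codRestrict _ fun x => x.2.1
  have hr : Function.Bijective r := by
    refine ⟨(injective_iff_map_eq_one r).mpr fun x hx => ?_, fun y => ?_⟩
    · have h1 : (x : Cov (canon Q)) ∈ t.range :=
        (QuotientGroup.eq_one_iff _).mp (congrArg Subtype.val hx)
      exact Subtype.ext (mem_bot.mp (hint' ▸ mem_inf.mpr ⟨h1, x.2.2⟩))
    · obtain ⟨z, hz⟩ := QuotientGroup.mk'_surjective t.range y.1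
      have hzR : z ∈ R := by
        have h := y.2
        rw [← hz] at h
        exact h
      obtain ⟨m, hm, hzm⟩ := hsup' z hzR
      refine ⟨⟨m, hm⟩⁻¹, Subtype.ext ?_⟩
      show QuotientGroup.mk' t.range m⁻¹ = y.1
      rw [← hz, QuotientGroup.mk'_eq_mk']
      exact ⟨m * z, by rw [← mem_center_iff.mp (multSub_le_center _ hm) z]; exact hzm, by group⟩
  let η' : Cov (canon Q) →* mult Q := (MulEquiv.ofBijective r hr).symm.toMonoidHom.comp η
  have hηL : η' l₀ = w ⟨l₀, hl₀⟩ := by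
    rw [MonoidHom.comp_apply, MulEquiv.coe_toMonoidHom, MulEquiv.symm_apply_eq]
    refine Subtype.ext ?_
    show (φ l₀)⁻¹ * φ' l₀ = φ' (w ⟨l₀, hl₀⟩).1
    have h1 : φ l₀ = 1 := by
      show g (QuotientGroup.mk l₀) = 1
      rw [(QuotientGroup.eq_one_iff l₀).mpr hl₀, map_one]
    rw [h1, inv_one, one_mul, QuotientGroup.mk'_eq_mk']
    refine ⟨l₀⁻¹ * (w ⟨l₀, hl₀⟩).1, ?_, by group⟩
    rw [← inv_mem_iff, mul_inv_rev, inv_inv]
    refine ⟨⟨l₀, hl₀⟩, ?_⟩
    show l₀ * ((w ⟨l₀, hl₀⟩)⁻¹ : mult Q).1 = _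
    rw [Subgroup.coe_inv]
    exact mem_center_iff.mp (inv_mem (multSub_le_center _ (w ⟨l₀, hl₀⟩).2)) l₀
  have hη1 : η' c = 1 := Abelianization.commutator_subset_ker η' hc
  have hpow : (η' e) ^ p = m₀ ^ (b.repr v₀ i) := by
    rw [← map_pow, hel, map_mul, hη1, one_mul, hηL]
    rfl
  obtain ⟨x, y, hxy⟩ : IsCoprime (b.repr v₀ i) (p : ℤ) :=
    ((Nat.prime_iff_prime_int.mp hp).coprime_iff_not_dvd.mpr hi).symm
  refine hm₀ ((η' e) ^ x * m₀ ^ y) ?_
  rw [mul_pow, ← zpow_natCast ((η' e) ^ x), ← zpow_natCast (m₀ ^ y), ← zpow_mul, ← zpow_mul,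
    mul_comm x, zpow_mul, zpow_natCast, hpow, ← zpow_mul, ← zpow_add, mul_comm (b.repr v₀ i) x,
    hxy, zpow_one]

end CfsgLib.SchurTheory
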