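import Cfsg.Agent.SchurTheory.Basic
import Mathlib.GroupTheory.SemidirectProduct
import Mathlib.Algebra.GroupWithZero.Basic
import Mathlib.GroupTheory.SpecificGroups.Cyclic
import Mathlib.Algebra.BigOperators.Intervals
import Mathlib.GroupTheory.PresentedGroup
import Mathlib.Tactic

/-!
# The Schur multiplier of a metacyclic group

`mult_metacyclic`: if `Q` is generated by `a` of order `m` and `b` with `b a b⁻¹ = a ^ r`,
`b ^ n = a ^ t` and `n` the order of `b` modulo `⟨a⟩`, then the multiplier is cyclic of order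
`gcd (m, t, 1 + r + ⋯ + r ^ (n-1)) / (m / gcd (m, r-1))`.
-/

set_option autoImplicit false
set_option linter.style.haveILetI false

namespace CfsgLib.SchurTheory

open Subgroup
open scoped commutatorElement

universe u

section Tools

variable {E : Type*} [Group E]

/-- The commutator subgroup of a group generated by the centre and two elements. -/
theorem commutator_le_zpowers {a b c : E} (hgen : closure ({a, b} ∪ (center E : Set E)) = ⊤)
    (hc : ⁅b, a⁆ = c) (ha : a * c * a⁻¹ ∈ zpowers c) (hb : b * c * b⁻¹ ∈ zpowers c)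
    (hfin : IsOfFinOrder c) : commutator E ≤ zpowers c := by
  haveI : Finite (zpowers c) := hfin.finite_zpowers
  have hnorm : ∀ x : E, x * c * x⁻¹ ∈ zpowers c → x ∈ normalizer (zpowers c : Set E) := by
    intro x hx
    have hle : (zpowers c).map (MulAut.conj x).toMonoidHom ≤ zpowers c := by
      rw [MonoidHom.map_zpowers, zpowers_le]
      simpa using hx
    have heq : (zpowers c).map (MulAut.conj x).toMonoidHom = zpowers c :=
      eq_of_le_of_card_ge hle (le_of_eq
        (Nat.card_congr (equivMapOfInjective _ _ (MulAut.conj x).injective).toEquiv))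
    rw [mem_normalizer_iff]
    intro y
    constructor
    · intro hy
      rw [← heq]
      exact ⟨y, hy, by simp⟩
    · intro hy
      rw [← heq] at hy
      obtain ⟨w, hw, e⟩ := hy
      have : w = y := (MulAut.conj x).injective (by simpa using e)
      exact this ▸ hw
  haveI hN : (zpowers c).Normal := normalizer_eq_top_iff.mp <| top_le_iff.mp <| by
    rw [← hgen, closure_le]
    rintro x ((rfl | rfl) | hx)
    · exact hnorm _ ha
    · exact hnorm _ hb
    · exact hnorm _ (by
        rw [← mem_center_iff.mp hx c, mul_inv_cancel_right]; exact mem_zpowers c)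
  let q := QuotientGroup.mk' (zpowers c)
  have hab : q b * q a = q a * q b := by
    have : q ⁅b, a⁆ = 1 := (QuotientGroup.eq_one_iff _).mpr (hc ▸ mem_zpowers c)
    rwa [map_commutatorElement, commutatorElement_eq_one_iff_mul_comm] at this
  have hS : closure (q '' ({a, b} ∪ (center E : Set E))) = ⊤ := by
    rw [← MonoidHom.map_closure, hgen, map_top_of_surjective _ (QuotientGroup.mk'_surjective _)]
  have hcomm : ∀ x ∈ q '' ({a, b} ∪ (center E : Set E)),
      ∀ y ∈ q '' ({a, b} ∪ (center E : Set E)), x * y = y * x := by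
    rintro _ ⟨x, hx, rfl⟩ _ ⟨y, hy, rfl⟩
    rcases hx with (rfl | rfl) | hx
    · rcases hy with (rfl | rfl) | hy
      · rfl
      · exact hab.symm
      · rw [← map_mul, ← map_mul, mem_center_iff.mp hy]
    · rcases hy with (rfl | rfl) | hy
      · exact hab
      · rfl
      · rw [← map_mul, ← map_mul, mem_center_iff.mp hy]
    · rw [← map_mul, ← map_mul, mem_center_iff.mp hx y]
  have hc1 : closure (q '' ({a, b} ∪ (center E : Set E))) ≤
      centralizer (q '' ({a, b} ∪ (center E : Set E))) := by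
    rw [closure_le]
    intro x hx
    exact mem_centralizer_iff.mpr fun y hy => hcomm y hy x hx
  have hc2 : ∀ x : E, ∀ y : E, q x * q y = q y * q x := by
    intro x
    have hx : q x ∈ centralizer (q '' ({a, b} ∪ (center E : Set E))) := hc1 (hS ▸ mem_top _)
    have hle : closure (q '' ({a, b} ∪ (center E : Set E))) ≤ centralizer {q x} := by
      rw [closure_le]
      intro y hy
      exact mem_centralizer_singleton_iff.mpr (mem_centralizer_iff.mp hx y hy)
    intro y
    have hy : q y ∈ centralizer {q x} := hle (hS ▸ mem_top _)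
    exact (mem_centralizer_singleton_iff.mp hy).symm
  rw [commutator_def, commutator_le]
  intro x _ y _
  rw [← QuotientGroup.eq_one_iff]
  show q ⁅x, y⁆ = 1
  rw [map_commutatorElement, commutatorElement_eq_one_iff_mul_comm]
  exact hc2 x y

/-- A cyclic subgroup normalised by a second generator is normal. -/
theorem zpowers_normal_of_conj {x y : E} {r : ℕ} (hfx : IsOfFinOrder x)
    (hgen : closure ({x, y} : Set E) = ⊤) (hxy : y * x * y⁻¹ = x ^ r) : (zpowers x).Normal := by
  haveI : Finite (zpowers x) := hfx.finite_zpowers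
  refine normalizer_eq_top_iff.mp <| top_le_iff.mp <| by
    rw [← hgen, closure_le]
    rintro g (rfl | rfl)
    · exact le_normalizer (mem_zpowers g)
    · have hle : (zpowers x).map (MulAut.conj g).toMonoidHom ≤ zpowers x := by
        rw [MonoidHom.map_zpowers, zpowers_le]
        exact ⟨r, by simp [hxy]⟩
      have heq := eq_of_le_of_card_ge hle (le_of_eq
        (Nat.card_congr (equivMapOfInjective _ _ (MulAut.conj g).injective).toEquiv))
      show g ∈ normalizer (zpowers x : Set E)
      rw [mem_normalizer_iff]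
      intro h
      constructor
      · intro hh
        rw [← heq]
        exact ⟨h, hh, by simp⟩
      · intro hh
        rw [← heq] at hh
        obtain ⟨w, hw, e⟩ := hh
        have : w = h := (MulAut.conj g).injective (by simpa using e)
        exact this ▸ hw

/-- Lifts of generators and the centre generate a central extension. -/
theorem closure_union_center_eq_top {Q : Type*} [Group Q] (ε : E →* Q)
    (hc : ε.ker ≤ center E) {a b : E} (h : closure ({ε a, ε b} : Set Q) = ⊤) :
    closure ({a, b} ∪ (center E : Set E)) = ⊤ := by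
  refine eq_top_iff.mpr fun x _ => ?_
  have hx : ε x ∈ (closure ({a, b} : Set E)).map ε := by
    rw [MonoidHom.map_closure, Set.image_pair, h]; exact mem_top _
  obtain ⟨w, hw, e⟩ := hx
  have hz : w⁻¹ * x ∈ center E := hc (by rw [MonoidHom.mem_ker, map_mul, map_inv, e, inv_mul_cancel])
  have := mul_mem (closure_mono Set.subset_union_left hw)
    (subset_closure (Or.inr hz) : w⁻¹ * x ∈ closure ({a, b} ∪ (center E : Set E)))
  rwa [mul_inv_cancel_left] at this

end Tools

theorem geom_sum_mul_add_one {r : ℕ} (hr : 0 < r) (n : ℕ) :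
    (r - 1) * (∑ i ∈ Finset.range n, r ^ i) + 1 = r ^ n := by
  obtain ⟨s, rfl⟩ : ∃ s, r = s + 1 := ⟨r - 1, by omega⟩
  induction n with
  | zero => simp
  | succ n ih =>
    rw [Finset.sum_range_succ, pow_succ, ← ih, Nat.add_sub_cancel]
    ring

/-- Data of a metacyclic group. -/
structure MetacyclicData {Q : Type u} [Group Q] (a b : Q) (m n r t : ℕ) : Prop where
  hm : 0 < m
  hn : 0 < n
  hr : 0 < r
  gen : closure ({a, b} : Set Q) = ⊤
  orderA : orderOf a = m
  powB : b ^ n = a ^ t
  conj : b * a * b⁻¹ = a ^ r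
  ordB : ∀ j : ℤ, b ^ j ∈ zpowers a → (n : ℤ) ∣ j

/-- The order of the multiplier of a metacyclic group. -/
def metacyclicMult (m n r t : ℕ) : ℕ :=
  Nat.gcd (Nat.gcd m t) (∑ i ∈ Finset.range n, r ^ i) / (m / Nat.gcd m (r - 1))

variable {Q : Type u} [Group Q] {a b : Q} {m n r t : ℕ}

namespace MetacyclicData

variable (h : MetacyclicData a b m n r t)
include h

theorem m_dvd_t : m ∣ (r - 1) * t := by
  have h1 : b * a ^ t * b⁻¹ = a ^ t := by
    rw [← h.powB]; group
  rw [← conj_pow, h.conj, ← pow_mul] at h1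
  have h2 := pow_eq_pow_iff_modEq.mp h1
  rw [h.orderA] at h2
  have hle : t ≤ r * t := Nat.le_mul_of_pos_left t h.hr
  rw [Nat.sub_mul, one_mul]
  exact (Nat.modEq_iff_dvd' hle).mp h2.symm

theorem conj_pow_iter (k : ℕ) : b ^ k * a * (b ^ k)⁻¹ = a ^ r ^ k := by
  induction k with
  | zero => simp
  | succ k ih =>
    calc b ^ (k + 1) * a * (b ^ (k + 1))⁻¹ = b * (b ^ k * a * (b ^ k)⁻¹) * b⁻¹ := by
          rw [pow_succ' b k]; group
      _ = a ^ r ^ (k + 1) := by rw [ih, ← conj_pow, h.conj, ← pow_mul, ← pow_succ' r k]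

theorem r_pow_modEq : r ^ n ≡ 1 [MOD m] := by
  have h1 := h.conj_pow_iter n
  rw [h.powB] at h1
  have h2 : a ^ r ^ n = a ^ 1 := by
    rw [← h1, pow_one]; group
  exact h.orderA ▸ pow_eq_pow_iff_modEq.mp h2

theorem m_dvd_sum : m ∣ (r - 1) * ∑ i ∈ Finset.range n, r ^ i := by
  have h1 := h.r_pow_modEq
  rw [← geom_sum_mul_add_one h.hr n] at h1
  exact Nat.modEq_zero_iff_dvd.mp (Nat.ModEq.add_right_cancel' 1 (by simpa using h1))

omit h in
theorem div_dvd_of_dvd_mul {m r' k : ℕ} (hm : 0 < m) (hk : m ∣ r' * k) : m / Nat.gcd m r' ∣ k := by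
  rcases Nat.eq_zero_or_pos (Nat.gcd m r') with h0 | h0
  · rw [h0, Nat.div_zero]
    exact absurd h0 (Nat.gcd_pos_of_pos_left r' hm).ne'
  · refine Nat.dvd_of_mul_dvd_mul_left h0 ?_
    rw [Nat.mul_div_cancel' (Nat.gcd_dvd_left m r'), ← Nat.gcd_mul_right]
    exact Nat.dvd_gcd (dvd_mul_right m k) hk

theorem k0_dvd_G : m / Nat.gcd m (r - 1) ∣
    Nat.gcd (Nat.gcd m t) (∑ i ∈ Finset.range n, r ^ i) :=
  Nat.dvd_gcd (Nat.dvd_gcd (Nat.div_dvd_of_dvd (Nat.gcd_dvd_left _ _))
    (div_dvd_of_dvd_mul h.hm h.m_dvd_t)) (div_dvd_of_dvd_mul h.hm h.m_dvd_sum)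

/-- The upper bound. -/
theorem multSub_le : ∃ c : Cov (canon Q), c ^ metacyclicMult m n r t = 1 ∧
    multSub (canon Q) ≤ zpowers c := by
  set ε := covMap (canon Q) with hε
  have hZ := covMap_ker_le_center (canon Q)
  obtain ⟨A, hA⟩ := covMap_surjective _ (canon_surjective Q) a
  obtain ⟨B, hB⟩ := covMap_surjective _ (canon_surjective Q) b
  have hgen := closure_union_center_eq_top ε hZ (a := A) (b := B) (by rw [hA, hB]; exact h.gen)
  set z := (A ^ r)⁻¹ * (B * A * B⁻¹) with hz
  have hzc : z ∈ center (Cov (canon Q)) := hZ (by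
    rw [MonoidHom.mem_ker, hz]; simp only [map_mul, map_inv, map_pow, hA, hB]
    rw [h.conj, inv_mul_cancel])
  have hconj : B * A * B⁻¹ = A ^ r * z := by rw [hz, mul_inv_cancel_left]
  have hcz : ∀ x, Commute x z := fun x => mem_center_iff.mp hzc x
  set c := A ^ (r - 1) * z with hc
  have hcpow : ∀ k : ℕ, c ^ k = A ^ ((r - 1) * k) * z ^ k := fun k => by
    rw [hc, (hcz _).mul_pow, pow_mul]
  have hr1 : r - 1 + 1 = r := Nat.sub_add_cancel h.hr
  have hcomm : ⁅B, A⁆ = c := by
    rw [commutatorElement_def, hconj, hc]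
    conv_lhs => rw [← hr1, pow_succ, mul_assoc (A ^ (r - 1)) A z, (hcz A).eq, ← mul_assoc,
      mul_inv_cancel_right]
  have hkey : ∀ k, B * A ^ k * B⁻¹ = A ^ k * c ^ k := fun k => by
    rw [← conj_pow, hconj, (hcz _).mul_pow, hcpow, ← pow_mul, ← mul_assoc, ← pow_add]
    congr 2
    conv_lhs => rw [← hr1]
    ring
  have hfix : ∀ k, B * A ^ k * B⁻¹ = A ^ k → c ^ k = 1 := fun k hk => by
    rw [hkey] at hk
    exact mul_eq_left.mp hk
  have hm1 : c ^ m = 1 := hfix m (by
    have : A ^ m ∈ center (Cov (canon Q)) := hZ (by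
      rw [MonoidHom.mem_ker, map_pow, hA, ← h.orderA, pow_orderOf_eq_one])
    rw [mem_center_iff.mp this B, mul_inv_cancel_right])
  have hw : (A ^ t)⁻¹ * B ^ n ∈ center (Cov (canon Q)) := hZ (by
    rw [MonoidHom.mem_ker, map_mul, map_inv, map_pow, map_pow, hA, hB, h.powB, inv_mul_cancel])
  have ht1 : c ^ t = 1 := hfix t (by
    have e : A ^ t = B ^ n * ((A ^ t)⁻¹ * B ^ n)⁻¹ := by group
    rw [e]
    have := mem_center_iff.mp (inv_mem hw) B
    calc B * (B ^ n * ((A ^ t)⁻¹ * B ^ n)⁻¹) * B⁻¹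
        = B ^ n * (B * ((A ^ t)⁻¹ * B ^ n)⁻¹) * B⁻¹ := by group
      _ = B ^ n * (((A ^ t)⁻¹ * B ^ n)⁻¹ * B) * B⁻¹ := by rw [this]
      _ = _ := by group)
  have hiter : ∀ k : ℕ, B ^ k * A * (B ^ k)⁻¹ =
      A ^ r ^ k * z ^ (∑ i ∈ Finset.range k, r ^ i) := by
    intro k
    induction k with
    | zero => simp
    | succ k ih =>
      calc B ^ (k + 1) * A * (B ^ (k + 1))⁻¹ = B * (B ^ k * A * (B ^ k)⁻¹) * B⁻¹ := by
            rw [pow_succ' B k]; group
        _ = (B * A ^ r ^ k * B⁻¹) * (B * z ^ (∑ i ∈ Finset.range k, r ^ i) * B⁻¹) := by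
            rw [ih]; group
        _ = _ := by
            rw [← conj_pow, hconj, (hcz _).mul_pow, ← pow_mul,
              ((hcz B).pow_right _).eq, mul_inv_cancel_right, mul_assoc, ← pow_add,
              ← pow_succ' r k, Finset.sum_range_succ, Nat.add_comm (r ^ k)]
  have hS1 : c ^ (∑ i ∈ Finset.range n, r ^ i) = 1 := by
    have e1 : B ^ n * A * (B ^ n)⁻¹ = A := by
      have e : B ^ n = A ^ t * ((A ^ t)⁻¹ * B ^ n) := by group
      rw [e, mul_assoc (A ^ t), ← mem_center_iff.mp hw A, ← mul_assoc, ← pow_succ, pow_succ',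
        mul_assoc A, mul_inv_cancel_right]
    rw [hiter] at e1
    rw [hcpow]
    refine mul_left_cancel (a := A) ?_
    rw [mul_one, ← mul_assoc, ← pow_succ', geom_sum_mul_add_one h.hr]
    exact e1
  have hG : c ^ Nat.gcd (Nat.gcd m t) (∑ i ∈ Finset.range n, r ^ i) = 1 :=
    pow_gcd_eq_one.mpr ⟨pow_gcd_eq_one.mpr ⟨hm1, ht1⟩, hS1⟩
  have hfin : IsOfFinOrder c := isOfFinOrder_iff_pow_eq_one.mpr ⟨m, h.hm, hm1⟩
  have hcA : A * c * A⁻¹ ∈ zpowers c := by
    have : Commute A c := (Commute.self_pow A (r - 1)).mul_right (hcz A)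
    rw [this.eq, mul_inv_cancel_right]
    exact mem_zpowers c
  have hcB : B * c * B⁻¹ ∈ zpowers c := by
    refine ⟨(r : ℤ), ?_⟩
    show c ^ (r : ℤ) = _
    rw [zpow_natCast]
    have hA' : Commute (A ^ (r - 1)) (c ^ (r - 1)) :=
      (((Commute.refl A).pow_pow _ _).mul_right (hcz _)).pow_right _
    calc c ^ r = A ^ (r - 1) * c ^ (r - 1) * z := by
          conv_lhs => rw [← hr1, pow_succ]
          rw [hA'.eq, mul_assoc, ← hc]
      _ = B * A ^ (r - 1) * B⁻¹ * (B * z * B⁻¹) := by
          rw [hkey, (hcz B).eq, mul_inv_cancel_right]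
      _ = B * c * B⁻¹ := by rw [hc]; group
  refine ⟨c ^ (m / Nat.gcd m (r - 1)), ?_, ?_⟩
  · rw [← pow_mul, metacyclicMult, Nat.mul_div_cancel' h.k0_dvd_G, hG]
  · rintro x ⟨hx1, hx2⟩
    obtain ⟨j, rfl⟩ := commutator_le_zpowers hgen hcomm hcA hcB hfin hx2
    have h1 : (m : ℤ) ∣ ((r - 1 : ℕ) : ℤ) * j := by
      have hεz : ε z = 1 := by
        rw [hz]; simp only [map_mul, map_inv, map_pow]
        rw [hA, hB, h.conj, inv_mul_cancel]
      have : ε (c ^ j) = 1 := hx1
      rw [map_zpow, hc, map_mul, map_pow, hA, hεz, mul_one, ← zpow_natCast, ← zpow_mul,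
        ← orderOf_dvd_iff_zpow_eq_one, h.orderA] at this
      exact this
    have h2 : m / Nat.gcd m (r - 1) ∣ j.natAbs := by
      refine div_dvd_of_dvd_mul h.hm ?_
      simpa [Int.natAbs_mul] using Int.natAbs_dvd_natAbs.mpr h1
    obtain ⟨k, hk⟩ := Int.natCast_dvd.mpr h2
    exact ⟨k, by show (c ^ _) ^ k = c ^ j; rw [hk, zpow_mul, zpow_natCast]⟩

end MetacyclicData

section Model

variable (m r G : ℕ) (hGm : G ∣ m)

/-- The twisting automorphism of `ZMod m × ZMod G`. -/
def modelEnd : (ZMod m × ZMod G) →+ (ZMod m × ZMod G) where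
  toFun x := ((r : ZMod m) * x.1, ZMod.castHom hGm (ZMod G) x.1 + x.2)
  map_zero' := by simp
  map_add' x y := by
    ext
    · simp [mul_add]
    · simp only [Prod.snd_add, Prod.fst_add, map_add]; ring

theorem modelEnd_iterate (k : ℕ) (x : ZMod m × ZMod G) :
    (modelEnd m r G hGm)^[k] x = ((r : ZMod m) ^ k * x.1,
      ((∑ i ∈ Finset.range k, r ^ i : ℕ) : ZMod G) * ZMod.castHom hGm (ZMod G) x.1 + x.2) := by
  induction k with
  | zero => simp
  | succ k ih =>
    rw [Function.iterate_succ_apply', ih]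
    ext
    · simp [modelEnd, pow_succ']; ring
    · simp only [modelEnd, AddMonoidHom.coe_mk, ZeroHom.coe_mk, map_mul, map_pow, map_natCast,
        Finset.sum_range_succ, Nat.cast_add, Nat.cast_pow]
      ring

end Model

/-- The numerical conditions under which the model below exists. -/
structure ModelData (m n r t G : ℕ) : Prop where
  hn : 0 < n
  hGm : G ∣ m
  hrn : r ^ n ≡ 1 [MOD m]
  hrt : r * t ≡ t [MOD m]
  hGt : G ∣ t
  hGS : G ∣ ∑ i ∈ Finset.range n, r ^ i

namespace ModelData

variable {m n r t G : ℕ} (d : ModelData m n r t G)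

theorem iterate_n (x : ZMod m × ZMod G) : (modelEnd m r G d.hGm)^[n] x = x := by
  rw [modelEnd_iterate]
  have h1 : (r : ZMod m) ^ n = 1 := by
    have := (ZMod.natCast_eq_natCast_iff _ _ _).mpr d.hrn
    simpa using this
  rw [(ZMod.natCast_eq_zero_iff _ _).mpr d.hGS, h1]
  simp

/-- The automorphism used in the model. -/
def aut : MulAut (Multiplicative (ZMod m × ZMod G)) :=
  AddEquiv.toMultiplicative
    { toFun := modelEnd m r G d.hGm
      invFun := (modelEnd m r G d.hGm)^[n - 1]
      left_inv := fun x => by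
        rw [← Function.iterate_succ_apply, Nat.succ_eq_add_one, Nat.sub_add_cancel d.hn]
        exact d.iterate_n x
      right_inv := fun x => by
        rw [← Function.iterate_succ_apply' (modelEnd m r G d.hGm), Nat.succ_eq_add_one,
          Nat.sub_add_cancel d.hn]
        exact d.iterate_n x
      map_add' := map_add (modelEnd m r G d.hGm) }

theorem aut_pow (k : ℕ) (x : ZMod m × ZMod G) :
    (d.aut ^ k) (Multiplicative.ofAdd x) = Multiplicative.ofAdd ((modelEnd m r G d.hGm)^[k] x) := by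
  induction k with
  | zero => simp
  | succ k ih =>
    rw [pow_succ', MulAut.mul_apply, ih, Function.iterate_succ_apply']
    rfl

/-- The infinite cover of the model. -/
abbrev pre : Type :=
  SemidirectProduct (Multiplicative (ZMod m × ZMod G)) (Multiplicative ℤ) (zpowersHom _ d.aut)

/-- The relator `b ^ n a ^ (-t)`. -/
def rel : d.pre :=
  SemidirectProduct.inl (Multiplicative.ofAdd (-(t : ZMod m), (0 : ZMod G))) *
    SemidirectProduct.inr (Multiplicative.ofAdd (n : ℤ))

theorem aut_fix_t : d.aut (Multiplicative.ofAdd ((t : ZMod m), (0 : ZMod G)))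
    = Multiplicative.ofAdd ((t : ZMod m), (0 : ZMod G)) := by
  show Multiplicative.ofAdd (modelEnd m r G d.hGm _) = _
  congr 1
  ext
  · have := (ZMod.natCast_eq_natCast_iff _ _ _).mpr d.hrt
    simpa [modelEnd] using this
  · simpa [modelEnd, ZMod.cast_natCast d.hGm] using (ZMod.natCast_eq_zero_iff _ _).mpr d.hGt

theorem aut_fix_snd (s : ZMod G) : d.aut (Multiplicative.ofAdd ((0 : ZMod m), s))
    = Multiplicative.ofAdd ((0 : ZMod m), s) := by
  show Multiplicative.ofAdd (modelEnd m r G d.hGm _) = _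
  simp [modelEnd]

theorem inr_conj_inl (k : Multiplicative ℤ) (x : Multiplicative (ZMod m × ZMod G)) :
    (SemidirectProduct.inr k : d.pre) * SemidirectProduct.inl x =
      SemidirectProduct.inl ((d.aut ^ k.toAdd) x) * SemidirectProduct.inr k := by
  have := SemidirectProduct.inl_aut (φ := zpowersHom _ d.aut) k x
  rw [zpowersHom_apply] at this
  rw [this, mul_assoc, ← map_mul]
  simp

theorem rel_mem_center : d.rel ∈ center d.pre := by
  have hfix : ∀ k : ℤ, (d.aut ^ k) (Multiplicative.ofAdd (-(t : ZMod m), (0 : ZMod G)))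
      = Multiplicative.ofAdd (-(t : ZMod m), (0 : ZMod G)) := by
    intro k
    have h1 : d.aut ∈ MulAction.stabilizer (MulAut (Multiplicative (ZMod m × ZMod G)))
        (Multiplicative.ofAdd (-(t : ZMod m), (0 : ZMod G))) := by
      rw [MulAction.mem_stabilizer_iff, MulAut.smul_def]
      have := congrArg (·⁻¹) d.aut_fix_t
      rw [← map_inv, ← ofAdd_neg, Prod.neg_mk, neg_zero] at this
      exact this
    exact Subgroup.zpow_mem _ h1 k
  have hn : ∀ x : Multiplicative (ZMod m × ZMod G), (d.aut ^ (n : ℤ)) x = x := fun x => by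
    rw [zpow_natCast]
    exact (d.aut_pow n x.toAdd).trans (congrArg Multiplicative.ofAdd (d.iterate_n _))
  have h2 : ∀ x, Commute d.rel (SemidirectProduct.inl x) := fun x => by
    show _ * _ * _ = _
    rw [mul_assoc, d.inr_conj_inl, toAdd_ofAdd, hn, ← mul_assoc, ← map_mul, mul_comm, map_mul,
      mul_assoc]
    rfl
  have h3 : ∀ k, Commute d.rel (SemidirectProduct.inr k) := fun k => by
    show d.rel * _ = _ * d.rel
    rw [rel, ← mul_assoc (SemidirectProduct.inr k), d.inr_conj_inl, hfix, mul_assoc, mul_assoc,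
      ← map_mul, ← map_mul, mul_comm k]
  rw [mem_center_iff]
  intro g
  rw [← SemidirectProduct.inl_left_mul_inr_right g]
  exact ((h2 _).mul_right (h3 _)).eq.symm

instance rel_normal : (zpowers d.rel).Normal where
  conj_mem x hx g := by
    rw [mem_center_iff.mp ((zpowers_le.mpr d.rel_mem_center) hx) g, mul_inv_cancel_right]
    exact hx

/-- The model group. -/
abbrev grp : Type := d.pre ⧸ zpowers d.rel

/-- The model's first generator. -/
def genA : d.grp :=
  QuotientGroup.mk (SemidirectProduct.inl (Multiplicative.ofAdd ((1 : ZMod m), (0 : ZMod G))))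

/-- The model's second generator. -/
def genB : d.grp := QuotientGroup.mk (SemidirectProduct.inr (Multiplicative.ofAdd (1 : ℤ)))

theorem rel_zpow (q : ℤ) : (d.rel ^ q).right = Multiplicative.ofAdd ((n : ℤ) * q) := by
  have := map_zpow (SemidirectProduct.rightHom (φ := zpowersHom _ d.aut)) d.rel q
  rw [SemidirectProduct.rightHom_eq_right] at this
  rw [this]
  simp only [rel, SemidirectProduct.mul_right, SemidirectProduct.right_inl,
    SemidirectProduct.right_inr, one_mul]
  rw [← ofAdd_zsmul, smul_eq_mul, mul_comm]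

theorem inl_mem_zpowers {x : Multiplicative (ZMod m × ZMod G)}
    (hx : (SemidirectProduct.inl x : d.pre) ∈ zpowers d.rel) : x = 1 := by
  obtain ⟨q, hq⟩ := hx
  have hq' : d.rel ^ q = SemidirectProduct.inl x := hq
  have h1 := congrArg SemidirectProduct.right hq'
  rw [d.rel_zpow, SemidirectProduct.right_inl, ← ofAdd_zero] at h1
  have hq0 : q = 0 := by
    rcases mul_eq_zero.mp (Multiplicative.ofAdd.injective h1) with h2 | h2
    · exact absurd (by exact_mod_cast h2) d.hn.ne'
    · exact h2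
  rw [hq0, zpow_zero] at hq'
  exact SemidirectProduct.inl_injective (hq'.symm.trans (map_one _).symm)

theorem genA_zpow (k : ℤ) : d.genA ^ k = QuotientGroup.mk
    (SemidirectProduct.inl (Multiplicative.ofAdd ((k : ZMod m), (0 : ZMod G)))) := by
  rw [genA, ← QuotientGroup.mk_zpow, ← map_zpow, ← ofAdd_zsmul]
  simp [Prod.smul_mk]

theorem genA_pow_m : d.genA ^ m = 1 := by
  rw [← zpow_natCast, d.genA_zpow, Int.cast_natCast, ZMod.natCast_self, ← Prod.zero_eq_mk,
    ofAdd_zero, map_one]
  rfl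

theorem genA_zpow_eq_one {k : ℤ} (hk : d.genA ^ k = 1) : (m : ℤ) ∣ k := by
  rw [d.genA_zpow, QuotientGroup.eq_one_iff] at hk
  have := congrArg (fun y => y.toAdd.1) (d.inl_mem_zpowers hk)
  exact (ZMod.intCast_zmod_eq_zero_iff_dvd k m).mp this

theorem genB_pow_n : d.genB ^ n = d.genA ^ t := by
  rw [← zpow_natCast d.genA, d.genA_zpow, Int.cast_natCast, genB, ← QuotientGroup.mk_pow,
    ← map_pow, ← ofAdd_nsmul, nsmul_eq_mul, mul_one, eq_comm, QuotientGroup.eq]
  refine ⟨1, ?_⟩
  show d.rel ^ (1 : ℤ) = _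
  rw [zpow_one, rel, ← map_inv, ← ofAdd_neg]
  simp [Prod.neg_mk]

theorem dvd_of_genB_zpow {j i : ℤ} (hji : d.genB ^ j = d.genA ^ i) : (n : ℤ) ∣ j := by
  rw [d.genA_zpow, genB, ← QuotientGroup.mk_zpow, QuotientGroup.eq] at hji
  obtain ⟨q, hq⟩ := hji
  have hq' := congrArg SemidirectProduct.right (hq : d.rel ^ q = _)
  rw [d.rel_zpow, SemidirectProduct.mul_right, ← map_zpow, ← map_inv,
    SemidirectProduct.right_inl, SemidirectProduct.right_inr, mul_one, ← ofAdd_zsmul,
    ← ofAdd_neg] at hq'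
  have := Multiplicative.ofAdd.injective hq'
  simp only [smul_eq_mul, mul_one] at this
  exact ⟨-q, by linarith⟩

theorem genB_conj : d.genB * d.genA * d.genB⁻¹ =
    QuotientGroup.mk (SemidirectProduct.inl (Multiplicative.ofAdd ((r : ZMod m), (1 : ZMod G)))) := by
  rw [genA, genB, ← QuotientGroup.mk_mul, d.inr_conj_inl, toAdd_ofAdd, zpow_one,
    ← QuotientGroup.mk_inv, ← QuotientGroup.mk_mul, mul_inv_cancel_right]
  congr 2
  show Multiplicative.ofAdd (modelEnd m r G d.hGm _) = _
  simp [modelEnd, ZMod.cast_one d.hGm]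

end ModelData

variable [Finite Q]

/-- The lower bound. -/
theorem MetacyclicData.dvd_card (h : MetacyclicData a b m n r t) :
    metacyclicMult m n r t ∣ Nat.card (mult Q) := by
  set G := Nat.gcd (Nat.gcd m t) (∑ i ∈ Finset.range n, r ^ i) with hGdef
  set k₀ := m / Nat.gcd m (r - 1) with hk₀
  have hGm : G ∣ m := (Nat.gcd_dvd_left _ _).trans (Nat.gcd_dvd_left _ _)
  have hrt : r * t ≡ t [MOD m] := by
    refine (Nat.modEq_iff_dvd' (Nat.le_mul_of_pos_left t h.hr)).mpr ?_ |>.symm
    have := h.m_dvd_t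
    rwa [Nat.sub_mul, one_mul] at this
  have d : ModelData m n r t G :=
    ⟨h.hn, hGm, h.r_pow_modEq, hrt, (Nat.gcd_dvd_left _ _).trans (Nat.gcd_dvd_right _ _),
      Nat.gcd_dvd_right _ _⟩
  -- the map to `Q`
  let fA : Multiplicative (ZMod m × ZMod G) →* Q :=
    AddMonoidHom.toMultiplicativeLeft <| (ZMod.lift m ⟨zmultiplesHom (Additive Q) (Additive.ofMul a),
      by
        rw [zmultiplesHom_apply, natCast_zsmul, ← ofMul_pow, ← h.orderA, pow_orderOf_eq_one, ofMul_one]⟩).comp (AddMonoidHom.fst _ _)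
  have hfA : ∀ (i : ℤ) (s : ZMod G), fA (Multiplicative.ofAdd ((i : ZMod m), s)) = a ^ i := by
    intro i s
    simp [fA, ← ofMul_zpow]
  have hcompat : ∀ x : Multiplicative (ZMod m × ZMod G), fA (d.aut x) = b * fA x * b⁻¹ := by
    intro x
    obtain ⟨⟨i, s⟩, rfl⟩ := Multiplicative.ofAdd.surjective x
    obtain ⟨i, rfl⟩ := ZMod.intCast_surjective i
    show fA (Multiplicative.ofAdd (modelEnd m r G d.hGm _)) = _
    have : modelEnd m r G d.hGm ((i : ZMod m), s)
        = ((((r : ℤ) * i : ℤ) : ZMod m), ZMod.castHom d.hGm (ZMod G) (i : ZMod m) + s) := by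
      simp [modelEnd, ZMod.cast_intCast d.hGm]
    rw [toAdd_ofAdd, this, hfA, hfA, zpow_mul, zpow_natCast, ← h.conj, conj_zpow]
  let fB : Multiplicative ℤ →* Q := zpowersHom Q b
  let f0 : d.pre →* Q := SemidirectProduct.lift fA fB (by
    intro k
    refine MonoidHom.ext fun x => ?_
    simp only [MonoidHom.comp_apply, MulEquiv.coe_toMonoidHom, zpowersHom_apply, fB,
      MulAut.conj_apply]
    obtain ⟨k, rfl⟩ := Multiplicative.ofAdd.surjective k
    rw [toAdd_ofAdd]
    induction k using Int.induction_on generalizing x with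
    | zero => simp
    | succ k ih => rw [zpow_add_one, MulAut.mul_apply, ih, hcompat]; group
    | pred k ih =>
      rw [zpow_sub_one, MulAut.mul_apply, ih]
      have := hcompat (d.aut⁻¹ x)
      rw [MulAut.apply_inv_self] at this
      rw [this]; group)
  have hf0 : zpowers d.rel ≤ f0.ker := by
    rw [zpowers_le, MonoidHom.mem_ker, ModelData.rel, map_mul, SemidirectProduct.lift_inl,
      SemidirectProduct.lift_inr]
    rw [show (-(t : ZMod m)) = ((-(t : ℤ) : ℤ) : ZMod m) by simp, hfA]
    simp [fB, h.powB]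
  let τ : d.grp →* Q := QuotientGroup.lift _ f0 hf0
  have hτA : τ d.genA = a := by
    show f0 (SemidirectProduct.inl _) = a
    rw [SemidirectProduct.lift_inl]
    simpa using hfA 1 0
  have hτB : τ d.genB = b := by
    show f0 (SemidirectProduct.inr _) = b
    rw [SemidirectProduct.lift_inr]
    simp [fB]
  have hs : Function.Surjective τ := by
    rw [← MonoidHom.range_eq_top, eq_top_iff, ← h.gen, closure_le]
    rintro x (rfl | rfl)
    · exact ⟨_, hτA⟩
    · exact ⟨_, hτB⟩
  have hker : τ.ker ≤ center d.grp := by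
    intro x hx
    obtain ⟨y, rfl⟩ := QuotientGroup.mk'_surjective _ x
    obtain ⟨⟨i, s⟩, hi⟩ := Multiplicative.ofAdd.surjective y.left
    obtain ⟨i, rfl⟩ := ZMod.intCast_surjective i
    have hy0 : f0 y = 1 := hx
    rw [← SemidirectProduct.inl_left_mul_inr_right y, map_mul, SemidirectProduct.lift_inl,
      SemidirectProduct.lift_inr, ← hi, hfA] at hy0
    have hj : b ^ y.right.toAdd ∈ zpowers a := ⟨-i, by
      show a ^ (-i) = _
      rw [zpow_neg]
      exact inv_eq_of_mul_eq_one_right hy0⟩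
    obtain ⟨q, hq⟩ := h.ordB _ hj
    have e : y = SemidirectProduct.inl (Multiplicative.ofAdd
        (((i : ℤ) : ZMod m) + q * (t : ZMod m), s)) * d.rel ^ q := by
      have h1 : d.rel ^ q = SemidirectProduct.inl (Multiplicative.ofAdd
          (-((q : ZMod m) * t), (0 : ZMod G))) * SemidirectProduct.inr
            (Multiplicative.ofAdd ((n : ℤ) * q)) := by
        have hc : Commute (SemidirectProduct.inl (Multiplicative.ofAdd (-(t : ZMod m), (0 : ZMod G))))
            (SemidirectProduct.inr (Multiplicative.ofAdd (n : ℤ)) : d.pre) := by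
          show _ = _
          rw [d.inr_conj_inl, toAdd_ofAdd, zpow_natCast, d.aut_pow, d.iterate_n]
        rw [ModelData.rel, hc.mul_zpow, ← map_zpow SemidirectProduct.inl, ← map_zpow SemidirectProduct.inr,
          ← ofAdd_zsmul, ← ofAdd_zsmul]
        congr 2
        · simp [Prod.smul_mk, smul_neg]
        · rw [smul_eq_mul, mul_comm]
      rw [h1, ← mul_assoc, ← map_mul, ← ofAdd_add, Prod.mk_add_mk, add_zero, add_neg_cancel_right,
        hi, ← hq, ofAdd_toAdd, SemidirectProduct.inl_left_mul_inr_right]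
    have hmk : QuotientGroup.mk' (zpowers d.rel) (d.rel ^ q) = 1 :=
      (QuotientGroup.eq_one_iff _).mpr (zpow_mem_zpowers _ q)
    rw [e, map_mul, hmk, mul_one] at hx ⊢
    have hx0 : fA (Multiplicative.ofAdd (((i + q * t : ℤ)) , s)) = 1 := by
      have h2 : f0 (SemidirectProduct.inl (Multiplicative.ofAdd
        (((i : ℤ) : ZMod m) + q * (t : ZMod m), s))) = 1 := hx
      rw [SemidirectProduct.lift_inl] at h2
      push_cast
      exact h2
    rw [hfA, ← orderOf_dvd_iff_zpow_eq_one, h.orderA,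
      ← ZMod.intCast_zmod_eq_zero_iff_dvd] at hx0
    push_cast at hx0
    rw [hx0]
    have hfix : ∀ k : ℤ, (d.aut ^ k) (Multiplicative.ofAdd ((0 : ZMod m), s))
        = Multiplicative.ofAdd ((0 : ZMod m), s) := fun k =>
      (Subgroup.zpow_mem (MulAction.stabilizer (MulAut (Multiplicative (ZMod m × ZMod G)))
        (Multiplicative.ofAdd ((0 : ZMod m), s))) (MulAction.mem_stabilizer_iff.mpr
          (d.aut_fix_snd s)) k)
    rw [mem_center_iff]
    intro g
    obtain ⟨g, rfl⟩ := QuotientGroup.mk'_surjective _ g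
    rw [← map_mul, ← map_mul]
    congr 1
    rw [← SemidirectProduct.inl_left_mul_inr_right g, mul_assoc, d.inr_conj_inl, hfix,
      ← mul_assoc, ← map_mul, mul_comm, map_mul, mul_assoc]
  -- the element `c ^ k₀`
  have hB : d.genB * d.genA * d.genB⁻¹ * d.genA⁻¹ =
      QuotientGroup.mk (SemidirectProduct.inl
        (Multiplicative.ofAdd (((r - 1 : ℕ) : ZMod m), (1 : ZMod G)))) := by
    rw [d.genB_conj, ModelData.genA, ← QuotientGroup.mk_inv, ← QuotientGroup.mk_mul, ← map_inv,
      ← map_mul, ← ofAdd_neg, ← ofAdd_add]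
    simp [Nat.cast_sub h.hr, sub_eq_add_neg]
  set w : d.grp := ⁅d.genB, d.genA⁆ ^ k₀ with hw
  have hw' : w = QuotientGroup.mk (SemidirectProduct.inl
      (Multiplicative.ofAdd ((0 : ZMod m), (k₀ : ZMod G)))) := by
    rw [hw, commutatorElement_def, hB, ← QuotientGroup.mk_pow, ← map_pow, ← ofAdd_nsmul]
    have h0 : k₀ • ((r - 1 : ℕ) : ZMod m) = 0 := by
      rw [nsmul_eq_mul, ← Nat.cast_mul, ZMod.natCast_eq_zero_iff, hk₀]
      obtain ⟨u, hu⟩ := Nat.gcd_dvd_right m (r - 1)
      refine ⟨u, ?_⟩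
      conv_lhs => arg 2; rw [hu]
      rw [← mul_assoc, Nat.div_mul_cancel (Nat.gcd_dvd_left _ _)]
    simp [Prod.smul_mk, h0]
  have hwmem : w ∈ τ.ker ⊓ commutator d.grp := by
    refine Subgroup.mem_inf.mpr ⟨?_, pow_mem (commutator_mem_commutator (mem_top _) (mem_top _)) _⟩
    rw [MonoidHom.mem_ker, hw', show τ (QuotientGroup.mk _) = f0 _ from rfl,
      SemidirectProduct.lift_inl]
    simpa using hfA 0 (k₀ : ZMod G)
  have hord : orderOf w = G / k₀ := by
    have hinj : Function.Injective ((QuotientGroup.mk' (zpowers d.rel)).comp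
        (SemidirectProduct.inl : _ →* d.pre)) :=
      (injective_iff_map_eq_one _).mpr fun x hx =>
        d.inl_mem_zpowers ((QuotientGroup.eq_one_iff _).mp hx)
    haveI : NeZero G := ⟨(Nat.pos_of_dvd_of_pos hGm h.hm).ne'⟩
    rw [hw', show (QuotientGroup.mk _ : d.grp) = ((QuotientGroup.mk' _).comp SemidirectProduct.inl)
      _ from rfl, orderOf_injective _ hinj, orderOf_ofAdd_eq_addOrderOf, Prod.addOrderOf_mk,
      addOrderOf_zero, Nat.lcm_one_left, ZMod.addOrderOf_coe _ (NeZero.ne G),
      Nat.gcd_eq_right (h.k0_dvd_G)]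
  have hdvd : orderOf w ∣ Nat.card (τ.ker ⊓ commutator d.grp : Subgroup d.grp) :=
    Subgroup.orderOf_dvd_natCard _ hwmem
  rw [hord] at hdvd
  exact hdvd.trans (card_ker_inf_dvd τ hs hker)

/-- The multiplier of a metacyclic group. -/
theorem MetacyclicData.hasCyclicSchurMultiplier (h : MetacyclicData a b m n r t) :
    Cfsg.HasCyclicSchurMultiplier Q (metacyclicMult m n r t) := by
  obtain ⟨c, hc1, hc2⟩ := h.multSub_le
  haveI : NeZero (metacyclicMult m n r t) := ⟨by
    have hm := h.hm
    rw [metacyclicMult]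
    exact (Nat.div_pos (Nat.le_of_dvd (Nat.gcd_pos_of_pos_left _ (Nat.gcd_pos_of_pos_left _ hm))
      h.k0_dvd_G) (Nat.div_pos (Nat.gcd_le_left _ hm) (Nat.gcd_pos_of_pos_left _ hm))).ne'⟩
  rw [hasCyclicSchurMultiplier_iff]
  refine ⟨isCyclic_of_injective (Subgroup.inclusion hc2) (Subgroup.inclusion_injective hc2), ?_⟩
  refine Nat.dvd_antisymm ?_ h.dvd_card
  refine (Subgroup.card_dvd_of_le hc2).trans ?_
  rw [Nat.card_zpowers]
  exact orderOf_dvd_of_pow_eq_one hc1

omit [Finite Q] in
theorem finite_of_metacyclic_rels {x y : Q} {m n r t : ℕ} (hm : 0 < m) (hn : 0 < n)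
    (hgen : closure ({x, y} : Set Q) = ⊤) (hx : x ^ m = 1) (hy : y ^ n = x ^ t)
    (hxy : y * x * y⁻¹ = x ^ r) : Finite Q := by
  have hfx : IsOfFinOrder x := isOfFinOrder_iff_pow_eq_one.mpr ⟨m, hm, hx⟩
  haveI : Finite (zpowers x) := hfx.finite_zpowers
  haveI hN : (zpowers x).Normal := zpowers_normal_of_conj hfx hgen hxy
  let q := QuotientGroup.mk' (zpowers x)
  have hgen' : zpowers (q y) = ⊤ := by
    rw [eq_top_iff, ← map_top_of_surjective q (QuotientGroup.mk'_surjective _), ← hgen,
      MonoidHom.map_closure, closure_le]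
    rintro _ ⟨g, (rfl | rfl), rfl⟩
    · have e : q g = 1 := (QuotientGroup.eq_one_iff g).mpr (mem_zpowers g)
      rw [e]
      exact one_mem _
    · exact mem_zpowers _
  have hfy : IsOfFinOrder (q y) := isOfFinOrder_iff_pow_eq_one.mpr ⟨n, hn, by
    rw [← map_pow]
    exact (QuotientGroup.eq_one_iff _).mpr (hy ▸ pow_mem (mem_zpowers x) t)⟩
  haveI : Finite (Q ⧸ zpowers x) := by
    haveI : Finite (zpowers (q y)) := hfy.finite_zpowers
    exact Finite.of_surjective (fun g : zpowers (q y) => (g : Q ⧸ zpowers x))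
      fun g => ⟨⟨g, hgen' ▸ mem_top g⟩, rfl⟩
  exact Finite.of_subgroup_quotient (zpowers x)

/-- `b` has order `n` modulo `⟨a⟩` when the order of `Q` is `m n`. -/
theorem ordB_of_card {a b : Q} {m n r : ℕ} (hgen : closure ({a, b} : Set Q) = ⊤)
    (hord : orderOf a = m) (hconj : b * a * b⁻¹ = a ^ r) (hcard : Nat.card Q = m * n) (j : ℤ)
    (hj : b ^ j ∈ zpowers a) : (n : ℤ) ∣ j := by
  haveI hN : (zpowers a).Normal := zpowers_normal_of_conj (isOfFinOrder_of_finite a) hgen hconj
  let q := QuotientGroup.mk' (zpowers a)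
  have hgen' : zpowers (q b) = ⊤ := by
    rw [eq_top_iff, ← map_top_of_surjective q (QuotientGroup.mk'_surjective _), ← hgen,
      MonoidHom.map_closure, closure_le]
    rintro _ ⟨g, (rfl | rfl), rfl⟩
    · have e : q g = 1 := (QuotientGroup.eq_one_iff g).mpr (mem_zpowers g)
      rw [e]
      exact one_mem _
    · exact mem_zpowers _
  have hn : orderOf (q b) = n := by
    have h1 := (zpowers a).card_eq_card_quotient_mul_card_subgroup
    rw [hcard, Nat.card_zpowers, hord, mul_comm m] at h1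
    have hm : 0 < m := hord ▸ orderOf_pos a
    rw [← Nat.card_zpowers, hgen', card_top]
    exact (Nat.eq_of_mul_eq_mul_right hm h1).symm
  rw [← hn, orderOf_dvd_iff_zpow_eq_one, ← map_zpow]
  exact (QuotientGroup.eq_one_iff _).mpr hj

end CfsgLib.SchurTheory
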