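import Cfsg.Agent.SchurTheory.Covers
import Cfsg.Agent.Characters.Linear
import Mathlib.Algebra.Category.Grp.Injective
import Mathlib.LinearAlgebra.Matrix.GeneralLinearGroup.Basic

/-!
# Projective complex representations and Schur covers

* `exists_proj_lift`: projective representations lift along a stem extension on which the lift
  from the free central extension is injective on the multiplier.
* `inf_eq_bot_of_forall_proj_lift`: the converse.
-/

set_option autoImplicit false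
set_option linter.style.haveILetI false

namespace CfsgLib.SchurTheory

open Subgroup CfsgLib.Characters

universe u v

/-- The projective linear group. -/
abbrev PGLC (n : ℕ) : Type := GL (Fin n) ℂ ⧸ center (GL (Fin n) ℂ)

/-- The quotient map to the projective linear group. -/
abbrev toPGLC (n : ℕ) : GL (Fin n) ℂ →* PGLC n := QuotientGroup.mk' _

theorem toPGLC_surjective (n : ℕ) : Function.Surjective (toPGLC n) :=
  QuotientGroup.mk'_surjective _

theorem ker_toPGLC_le (n : ℕ) : (toPGLC n).ker ≤ center (GL (Fin n) ℂ) :=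
  le_of_eq (QuotientGroup.ker_mk' _)

/-- A character of a subgroup of an abelian group extends. -/
theorem exists_extend_units {E : Type*} [CommGroup E] (L : Subgroup E) (ψ : L →* ℂˣ) :
    ∃ η : E →* ℂˣ, ∀ x : L, η x = ψ x := by
  letI : DivisibleBy (Additive ℂˣ) ℤ := divisibleByOfSMulRightSurj (Additive ℂˣ) ℤ fun {m} hm => by
    have hnat : ∀ k : ℕ, k ≠ 0 → ∀ a : ℂˣ, ∃ b : ℂˣ, b ^ k = a := fun k hk a => by
      obtain ⟨w, hw⟩ := IsAlgClosed.exists_pow_nat_eq (a : ℂ) (Nat.pos_of_ne_zero hk)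
      refine ⟨Units.mk0 w (fun h => a.ne_zero ?_), Units.ext hw⟩
      rw [← hw, h, zero_pow hk]
    intro a
    obtain ⟨b, hb⟩ := hnat m.natAbs (Int.natAbs_ne_zero.mpr hm) a.toMul
    rcases Int.natAbs_eq m with h | h
    · refine ⟨Additive.ofMul b, ?_⟩
      show m • Additive.ofMul b = a
      rw [h, natCast_zsmul, ← ofMul_pow, hb, ofMul_toMul]
    · refine ⟨Additive.ofMul b⁻¹, ?_⟩
      show m • Additive.ofMul b⁻¹ = a
      rw [h, neg_smul, natCast_zsmul, ofMul_inv, ← neg_nsmul, neg_neg, ← ofMul_pow, hb, ofMul_toMul]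
  obtain ⟨h, hh⟩ := (Module.Baer.of_divisible (Additive ℂˣ)).extension_property_addMonoidHom
    (MonoidHom.toAdditive L.subtype) (fun _ _ h => L.subtype_injective h) (MonoidHom.toAdditive ψ)
  exact ⟨MonoidHom.toAdditive.symm h, fun x => DFunLike.congr_fun hh (Additive.ofMul x)⟩

/-- A character of a subgroup meeting the commutator subgroup trivially extends. -/
theorem exists_extend_of_inf_commutator {G : Type*} [Group G] (L : Subgroup G)
    (hL : L ⊓ commutator G = ⊥) (ψ : L →* ℂˣ) : ∃ η : G →* ℂˣ, ∀ x : L, η x = ψ x := by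
  let f : L →* Abelianization G := Abelianization.of.comp L.subtype
  have hf : Function.Injective f := by
    rw [injective_iff_map_eq_one]
    intro x hx
    have hx' : (x : G) ∈ commutator G := by rw [← Abelianization.ker_of]; exact hx
    exact Subtype.ext (mem_bot.mp (hL ▸ mem_inf.mpr ⟨x.2, hx'⟩))
  obtain ⟨η, hη⟩ := exists_extend_units f.range (ψ.comp (MonoidHom.ofInjective hf).symm.toMonoidHom)
  refine ⟨η.comp Abelianization.of, fun x => ?_⟩
  have h := hη (MonoidHom.ofInjective hf x)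
  rw [MonoidHom.comp_apply, MulEquiv.coe_toMonoidHom, MulEquiv.symm_apply_apply] at h
  exact h

variable {Q : Type u} [Group Q] {Γ : Type v} [Group Γ]

/-- Projective representations lift along a stem extension to which the free central extension maps
injectively on the multiplier. -/
theorem exists_proj_lift (σ : Γ →* Q) (hσ : Cfsg.IsStemExtension σ) (φ : Cov (canon Q) →* Γ)
    (hφ : σ.comp φ = covMap (canon Q)) (hint : φ.ker ⊓ commutator (Cov (canon Q)) = ⊥) (n : ℕ)
    (γ : Q →* PGLC n) : ∃ ρ : Γ →* GL (Fin n) ℂ, (toPGLC n).comp ρ = γ.comp σ := by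
  rcases Nat.eq_zero_or_pos n with rfl | hn
  · haveI : Subsingleton (PGLC 0) := (toPGLC_surjective 0).subsingleton
    exact ⟨1, MonoidHom.ext fun _ => Subsingleton.elim _ _⟩
  haveI : Nonempty (Fin n) := ⟨⟨0, hn⟩⟩
  have hsurj : Function.Surjective φ :=
    lift_surjective σ hσ φ (hφ ▸ covMap_surjective _ (canon_surjective Q))
  obtain ⟨ρ₀, hρ₀⟩ := exists_lift (canon Q) (toPGLC n) (ker_toPGLC_le n) γ
    fun x => toPGLC_surjective n _
  -- the scalars
  let sc : ℂˣ →* GL (Fin n) ℂ := Matrix.GeneralLinearGroup.scalar (Fin n)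
  have hsc : sc.range = center (GL (Fin n) ℂ) :=
    (Matrix.GeneralLinearGroup.center_eq_range_scalar).symm
  have hinj : Function.Injective sc := Units.map_injective fun _ _ h => Matrix.scalar_inj.mp h
  have hL : ∀ x : φ.ker, ρ₀ (x : Cov (canon Q)) ∈ sc.range := fun x => by
    rw [hsc]
    refine ker_toPGLC_le n ?_
    show toPGLC n (ρ₀ x) = 1
    rw [← MonoidHom.comp_apply, hρ₀, MonoidHom.comp_apply, ← hφ, MonoidHom.comp_apply,
      MonoidHom.mem_ker.mp x.2, map_one, map_one]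
  obtain ⟨η, hη⟩ := exists_extend_of_inf_commutator φ.ker hint
    ((MonoidHom.ofInjective hinj).symm.toMonoidHom.comp
      ((ρ₀.comp φ.ker.subtype).codRestrict sc.range hL))
  have hη' : ∀ x : φ.ker, sc (η x) = ρ₀ x := fun x => by
    rw [hη, MonoidHom.comp_apply, MulEquiv.coe_toMonoidHom, ← MonoidHom.ofInjective_apply hinj,
      MulEquiv.apply_symm_apply]
    rfl
  have hscc : ∀ (c : ℂˣ) (g : GL (Fin n) ℂ), g * sc c = sc c * g := fun c g =>
    mem_center_iff.mp (hsc ▸ ⟨c, rfl⟩ : sc c ∈ center (GL (Fin n) ℂ)) g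
  let ρ₁ : Cov (canon Q) →* GL (Fin n) ℂ :=
    MonoidHom.mk' (fun e => ρ₀ e * sc (η e)⁻¹) fun a b => by
      simp only [map_mul, mul_inv_rev, map_mul]
      calc ρ₀ a * ρ₀ b * (sc (η b)⁻¹ * sc (η a)⁻¹)
          = ρ₀ a * ((ρ₀ b * sc (η b)⁻¹) * sc (η a)⁻¹) := by group
        _ = ρ₀ a * sc (η a)⁻¹ * (ρ₀ b * sc (η b)⁻¹) := by
          rw [hscc (η a)⁻¹ (ρ₀ b * sc (η b)⁻¹)]
          group
  have hker : φ.ker ≤ ρ₁.ker := fun x hx => by
    show ρ₀ x * sc (η x)⁻¹ = 1
    rw [map_inv, hη' ⟨x, hx⟩, mul_inv_cancel]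
  refine ⟨φ.liftOfSurjective hsurj ⟨ρ₁, hker⟩, MonoidHom.ext fun g => ?_⟩
  obtain ⟨e, rfl⟩ := hsurj g
  have h1 : φ.liftOfSurjective hsurj ⟨ρ₁, hker⟩ (φ e) = ρ₁ e :=
    φ.liftOfRightInverse_comp_apply _ _ ⟨ρ₁, hker⟩ e
  rw [MonoidHom.comp_apply, h1]
  show toPGLC n (ρ₀ e * sc (η e)⁻¹) = γ (σ (φ e))
  rw [map_mul, (show toPGLC n (sc (η e)⁻¹) = 1 from
    (QuotientGroup.eq_one_iff _).mpr (hsc ▸ ⟨_, rfl⟩)), mul_one, ← MonoidHom.comp_apply, hρ₀]
  exact congrArg γ (DFunLike.congr_fun hφ.symm e)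

/-- If all projective representations lift along `σ`, the free central extension maps injectively
on the multiplier. -/
theorem inf_eq_bot_of_forall_proj_lift [Finite Q] (σ : Γ →* Q) (φ : Cov (canon Q) →* Γ)
    (hφ : σ.comp φ = covMap (canon Q))
    (hlift : ∀ (n : ℕ) (γ : Q →* PGLC n), ∃ ρ : Γ →* GL (Fin n) ℂ,
      (toPGLC n).comp ρ = γ.comp σ) :
    φ.ker ⊓ commutator (Cov (canon Q)) = ⊥ := by
  classical
  rw [eq_bot_iff]
  rintro m ⟨hm, hmc⟩
  rw [mem_bot]
  by_contra hm1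
  have hm1' : covMap (canon Q) m = 1 := by
    rw [← hφ, MonoidHom.comp_apply, MonoidHom.mem_ker.mp hm, map_one]
  -- a Schur cover separates the multiplier
  obtain ⟨L, hL, hint, hsup⟩ := exists_complement Q _ le_rfl
    fun z hz => ⟨1, one_mem _, by rwa [mul_one]⟩
  haveI := covMap_ker_normal_of_le hL
  obtain ⟨hfin, hσc, -⟩ := cover_of_complement L hL hint hsup
  haveI := hfin
  haveI := Fintype.ofFinite (Cov (canon Q) ⧸ L)
  set σc := QuotientGroup.lift L (covMap (canon Q)) hL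
  set z : Cov (canon Q) ⧸ L := QuotientGroup.mk m with hz
  have hz1 : z ≠ 1 := fun h =>
    hm1 (mem_bot.mp (hint ▸ mem_inf.mpr ⟨(QuotientGroup.eq_one_iff m).mp h, hmc⟩))
  obtain ⟨χ, hχ⟩ : ∃ χ : Cfsg.IrrCharacter (Cov (canon Q) ⧸ L),
      (χ : Cov (canon Q) ⧸ L → ℂ) z ≠ (χ : Cov (canon Q) ⧸ L → ℂ) 1 := by
    by_contra hne
    simp only [ne_eq, not_exists, not_not] at hne
    exact hz1 (isConj_one_left.mp (isConj_of_irr_eq hne))
  obtain ⟨k, ρ, hρ, hρχ⟩ := χ.2
  rw [← hρχ] at hχ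
  let R : (Cov (canon Q) ⧸ L) →* GL (Fin k) ℂ :=
    Matrix.GeneralLinearGroup.toLin.symm.toMonoidHom.comp ρ.asGroupHom
  have hRz : R z ≠ 1 := fun h => hχ <| by
    have h1 : ρ.asGroupHom z = 1 := by
      have h2 := congrArg Matrix.GeneralLinearGroup.toLin h
      rw [map_one] at h2
      exact ((MulEquiv.apply_symm_apply _ _).symm.trans h2)
    have h3 : ρ z = 1 := congrArg Units.val h1
    rw [Representation.character, Representation.character, h3, map_one ρ]
  have hRc : σc.ker ≤ ((toPGLC k).comp R).ker := fun w hw => by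
    refine (QuotientGroup.eq_one_iff _).mpr ?_
    obtain ⟨c, hc⟩ := central_scalar ρ (hσc.2.1 hw)
    rw [mem_center_iff]
    intro g
    apply Matrix.GeneralLinearGroup.toLin.injective
    have e : Matrix.GeneralLinearGroup.toLin (R w) = ρ.asGroupHom w :=
      MulEquiv.apply_symm_apply _ _
    rw [map_mul, map_mul, e]
    refine Units.ext ?_
    show _ * ρ w = ρ w * _
    rw [hc]
    ext x
    simp
  let γ : Q →* PGLC k := σc.liftOfSurjective hσc.1 ⟨(toPGLC k).comp R, hRc⟩
  have hγ : ∀ w, γ (σc w) = toPGLC k (R w) :=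
    σc.liftOfRightInverse_comp_apply _ _ ⟨(toPGLC k).comp R, hRc⟩
  obtain ⟨ρ', hρ'⟩ := hlift k γ
  have heq := eqOn_commutator (toPGLC k) (ker_toPGLC_le k) (ρ'.comp φ)
    (R.comp (QuotientGroup.mk' L)) (by
      refine MonoidHom.ext fun e => ?_
      show toPGLC k (ρ' (φ e)) = toPGLC k (R (QuotientGroup.mk e))
      rw [← hγ, ← MonoidHom.comp_apply, hρ']
      exact congrArg γ (DFunLike.congr_fun hφ e)) hmc
  rw [MonoidHom.comp_apply, MonoidHom.mem_ker.mp hm, map_one] at heq
  exact hRz heq.symm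

end CfsgLib.SchurTheory
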