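import Cfsg.Agent.SchurTheory.Basic
import Mathlib.GroupTheory.IsPerfect

/-!
# Schur covers and universal central extensions

* `exists_cover_over`: every stem extension is a quotient of a Schur cover.
* `ker_surjective_of_inf_eq_bot`: a stem extension whose lift is injective on the multiplier covers
  every other stem extension.
* `isPerfect_commutator_cov`: for perfect `Q` the derived subgroup of the free central extension is
  perfect (the universal central extension).
-/

set_option autoImplicit false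
set_option linter.style.haveILetI false

namespace CfsgLib.SchurTheory

open Subgroup
open scoped commutatorElement

universe u v w

variable {Q : Type u} [Group Q]

/-- Every stem extension is the image of a Schur cover, over `Q`. -/
theorem exists_cover_over [Finite Q] {Δ : Type w} [Group Δ] (τ : Δ →* Q)
    (hτ : Cfsg.IsStemExtension τ) :
    ∃ (Γ : Type u) (_ : Group Γ) (_ : Finite Γ) (σ : Γ →* Q), Cfsg.IsStemExtension σ ∧
      Nonempty (σ.ker ≃* mult Q) ∧ ∃ β : Γ →* Δ, Function.Surjective β ∧ τ.comp β = σ := by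
  obtain ⟨φ, hφ⟩ := exists_lift' (canon Q) τ hτ.1 hτ.2.1
  have hsurj : Function.Surjective φ :=
    lift_surjective τ hτ φ (hφ ▸ covMap_surjective _ (canon_surjective Q))
  have hm := map_multSub (canon Q) (canon_surjective Q) τ hτ.2.1 φ hφ
  rw [inf_eq_left.mpr hτ.2.2] at hm
  obtain ⟨L, hL, hint, hsup⟩ := exists_complement Q ((covMap (canon Q)).ker ⊓ φ.ker) inf_le_left
    fun z hz => by
      have hz' : φ z ∈ τ.ker := by
        rw [MonoidHom.mem_ker, ← MonoidHom.comp_apply, hφ]; exact hz
      rw [← hm] at hz'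
      obtain ⟨m, hm', e⟩ := hz'
      refine ⟨m⁻¹, inv_mem hm', mem_inf.mpr ⟨mul_mem hz (inv_mem hm'.1), ?_⟩⟩
      rw [MonoidHom.mem_ker, map_mul, map_inv, e, mul_inv_cancel]
  haveI := covMap_ker_normal_of_le (hL.trans inf_le_left)
  obtain ⟨hfin, h1, h2⟩ := cover_of_complement L (hL.trans inf_le_left) hint hsup
  refine ⟨_, inferInstance, hfin, _, h1, h2, QuotientGroup.lift L φ (hL.trans inf_le_right), ?_, ?_⟩
  · intro d
    obtain ⟨x, rfl⟩ := hsurj d
    exact ⟨QuotientGroup.mk x, rfl⟩
  · refine QuotientGroup.monoidHom_ext _ ?_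
    exact hφ

/-- If the lift to a stem extension `σ` is injective on the multiplier, its kernel maps onto the
kernel of every stem extension and is isomorphic to the multiplier. -/
theorem ker_equiv_mult {Γ : Type v} [Group Γ] (σ : Γ →* Q) (hσ : Cfsg.IsStemExtension σ)
    (φ : Cov (canon Q) →* Γ) (hφ : σ.comp φ = covMap (canon Q))
    (hint : φ.ker ⊓ commutator (Cov (canon Q)) = ⊥) : Nonempty (σ.ker ≃* mult Q) := by
  have hm := map_multSub (canon Q) (canon_surjective Q) σ hσ.2.1 φ hφ
  rw [inf_eq_left.mpr hσ.2.2] at hm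
  let f : mult Q →* σ.ker :=
    (φ.comp (multSub (canon Q)).subtype).codRestrict _ fun x => hm ▸ mem_map_of_mem φ x.2
  have hf : Function.Bijective f := by
    refine ⟨(injective_iff_map_eq_one f).mpr fun x hx => Subtype.ext ?_, fun y => ?_⟩
    · exact mem_bot.mp (hint ▸ (mem_inf.mpr ⟨congrArg Subtype.val hx, x.2.2⟩ :
        (x : Cov (canon Q)) ∈ φ.ker ⊓ commutator (Cov (canon Q))))
    · obtain ⟨x, hx, e⟩ := hm.ge y.2
      exact ⟨⟨x, hx⟩, Subtype.ext e⟩
  exact ⟨(MulEquiv.ofBijective f hf).symm⟩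

theorem ker_surjective_of_inf_eq_bot {Γ : Type v} [Group Γ] (σ : Γ →* Q)
    (hσ : Cfsg.IsStemExtension σ) (φ : Cov (canon Q) →* Γ) (hφ : σ.comp φ = covMap (canon Q))
    (hint : φ.ker ⊓ commutator (Cov (canon Q)) = ⊥) {Δ : Type w} [Group Δ] (τ : Δ →* Q)
    (hτ : Cfsg.IsStemExtension τ) : ∃ π : σ.ker →* τ.ker, Function.Surjective π := by
  obtain ⟨e⟩ := ker_equiv_mult σ hσ φ hφ hint
  obtain ⟨f, hf⟩ := exists_mult_surjective_stem τ hτ
  exact ⟨f.comp e.toMonoidHom, hf.comp e.surjective⟩

/-- A central extension of a group with trivial multiplier has kernel meeting the commutator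
subgroup trivially. -/
theorem inf_commutator_eq_bot [Finite Q] (h : Cfsg.HasCyclicSchurMultiplier Q 1) {Δ : Type w}
    [Group Δ] (τ : Δ →* Q) (hs : Function.Surjective τ) (hc : τ.ker ≤ center Δ) :
    τ.ker ⊓ commutator Δ = ⊥ := by
  obtain ⟨φ, hφ⟩ := exists_lift' (canon Q) τ hs hc
  rw [← map_multSub _ (canon_surjective Q) τ hc φ hφ, hasCyclicSchurMultiplier_one_iff.mp h,
    Subgroup.map_bot]

/-- For perfect `Q`, the derived subgroup of the free central extension is perfect. -/
theorem isPerfect_commutator_cov (hQ : Group.IsPerfect Q) :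
    Group.IsPerfect (commutator (Cov (canon Q))) := by
  rw [Group.isPerfect_def]
  refine map_injective (commutator (Cov (canon Q))).subtype_injective ?_
  rw [← MonoidHom.range_eq_map, range_subtype]
  refine map_commutator_eq (covMap (canon Q)) (covMap_ker_le_center _) _ fun q => ?_
  have hm : (commutator (Cov (canon Q))).map (covMap (canon Q)) = ⊤ := by
    rw [commutator_def, Subgroup.map_commutator,
      map_top_of_surjective _ (covMap_surjective _ (canon_surjective Q)), ← commutator_def]
    exact Group.isPerfect_def.mp hQ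
  obtain ⟨x, hx, e⟩ := hm.ge (mem_top q)
  exact ⟨⟨x, hx⟩, e⟩

/-- A stem extension of a perfect group is perfect. -/
theorem isPerfect_of_stem {Γ : Type v} [Group Γ] (σ : Γ →* Q) (hσ : Cfsg.IsStemExtension σ)
    (hQ : Group.IsPerfect Q) : Group.IsPerfect Γ := by
  rw [Group.isPerfect_def]
  refine eq_top_iff.mpr fun x _ => ?_
  have hm : (commutator Γ).map σ = ⊤ := by
    rw [commutator_def, Subgroup.map_commutator, map_top_of_surjective _ hσ.1, ← commutator_def]
    exact Group.isPerfect_def.mp hQ
  obtain ⟨c, hc, e⟩ := hm.ge (mem_top (σ x))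
  have hk : c⁻¹ * x ∈ commutator Γ := hσ.2.2 (by
    rw [MonoidHom.mem_ker, map_mul, map_inv, e, inv_mul_cancel])
  exact (Subgroup.mul_mem_cancel_left _ (inv_mem hc)).mp hk

/-- The free central extension maps injectively on the multiplier to a stem extension whose kernel
is isomorphic to the multiplier. -/
theorem inf_eq_bot_of_ker_equiv [Finite Q] {Γ : Type v} [Group Γ] (σ : Γ →* Q)
    (hσ : Cfsg.IsStemExtension σ) (φ : Cov (canon Q) →* Γ) (hφ : σ.comp φ = covMap (canon Q))
    (e : σ.ker ≃* mult Q) : φ.ker ⊓ commutator (Cov (canon Q)) = ⊥ := by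
  have hm := map_multSub (canon Q) (canon_surjective Q) σ hσ.2.1 φ hφ
  rw [inf_eq_left.mpr hσ.2.2] at hm
  let f : mult Q →* σ.ker :=
    (φ.comp (multSub (canon Q)).subtype).codRestrict _ fun x => hm ▸ mem_map_of_mem φ x.2
  have hs : Function.Surjective f := fun y => by
    obtain ⟨x, hx, e'⟩ := hm.ge y.2
    exact ⟨⟨x, hx⟩, Subtype.ext e'⟩
  have hinj : Function.Injective f :=
    ((Nat.bijective_iff_surjective_and_card f).mpr ⟨hs, (Nat.card_congr e.toEquiv).symm⟩).1
  rw [eq_bot_iff]
  rintro x ⟨hx, hxc⟩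
  have hxk : x ∈ (covMap (canon Q)).ker := by
    rw [MonoidHom.mem_ker, ← hφ, MonoidHom.comp_apply, MonoidHom.mem_ker.mp hx, map_one]
  have h1 : f ⟨x, hxk, hxc⟩ = 1 := Subtype.ext hx
  exact mem_bot.mpr (congrArg Subtype.val ((injective_iff_map_eq_one f).mp hinj _ h1))

end CfsgLib.SchurTheory
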