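import Cfsg.Agent.SchurTheory.Basic
import Cfsg.Agent.Characters.Linear

/-!
# The order of an element of prime power order of the multiplier

If `Q` is a finite group and `y` an element of prime power order `e` of its multiplier, a faithful
on `⟨y⟩` irreducible character of a Schur cover has degree divisible by `e`, whence `e ^ 2 ≤ |Q|`.
-/

set_option autoImplicit false
set_option linter.style.haveILetI false

namespace CfsgLib.SchurTheory

open CfsgLib.Characters

/-- A central element of the commutator subgroup of prime power order `e` gives `e ^ 2 ≤ [G : Z]`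
for every central subgroup `Z`. -/
theorem sq_orderOf_le_index {G : Type*} [Group G] [Finite G] (Z : Subgroup G)
    (hZ : Z ≤ Subgroup.center G) {p a : ℕ} (hp : p.Prime) {z : G} (hz : z ∈ Subgroup.center G)
    (hzc : z ∈ commutator G) (ho : orderOf z = p ^ a) : (p ^ a) ^ 2 ≤ Z.index := by
  classical
  haveI := Fintype.ofFinite G
  haveI := Fact.mk hp
  have hidx : 1 ≤ Z.index := Nat.one_le_iff_ne_zero.mpr Z.index_ne_zero_of_finite
  rcases Nat.eq_zero_or_pos a with rfl | ha
  · simpa using hidx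
  obtain ⟨k, rfl⟩ : ∃ k, a = k + 1 := ⟨a - 1, by omega⟩
  have hy : z ^ p ^ k ≠ 1 := by
    intro h
    have h1 := orderOf_dvd_of_pow_eq_one h
    rw [ho] at h1
    exact Nat.not_succ_le_self k ((Nat.pow_dvd_pow_iff_le_right hp.one_lt).mp h1)
  obtain ⟨χ, hχ⟩ : ∃ χ : Cfsg.IrrCharacter G, (χ : G → ℂ) (z ^ p ^ k) ≠ (χ : G → ℂ) 1 := by
    by_contra hne
    simp only [ne_eq, not_exists, not_not] at hne
    exact hy (isConj_one_left.mp (isConj_of_irr_eq hne))
  obtain ⟨n, ρ, hρ, hρχ⟩ := χ.2
  rw [← hρχ] at hχ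
  obtain ⟨c, hc⟩ := central_scalar ρ hz
  have hcp : ∀ i : ℕ, ρ (z ^ i) = c ^ i • LinearMap.id := by
    intro i
    induction i with
    | zero => rw [pow_zero, pow_zero, map_one, one_smul]; rfl
    | succ i ih =>
      rw [pow_succ, map_mul, ih, hc, pow_succ]
      ext x
      simp [mul_comm, mul_assoc]
  haveI := nontrivial_of_isIrreducible ρ
  have hord : orderOf c = p ^ (k + 1) := by
    refine orderOf_eq_prime_pow (fun h => hχ ?_) ?_
    · rw [Representation.character, Representation.character, hcp, h, one_smul, map_one]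
      rfl
    · obtain ⟨x, hx⟩ := exists_ne (0 : Fin n → ℂ)
      have h := LinearMap.congr_fun (hcp (p ^ (k + 1))) x
      rw [← ho, pow_orderOf_eq_one, map_one, Module.End.one_apply, LinearMap.smul_apply,
        LinearMap.id_apply] at h
      have h3 : (c ^ orderOf z - 1) • x = 0 := by rw [sub_smul, one_smul, ← h, sub_self]
      rw [← ho]
      exact sub_eq_zero.1 ((smul_eq_zero.1 h3).resolve_right hx)
  -- the determinant
  let d : G →* ℂˣ := (LinearMap.det.comp ρ).toHomUnits
  have hd : d z = 1 := Abelianization.commutator_subset_ker d hzc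
  have hdn : c ^ Module.finrank ℂ (Fin n → ℂ) = 1 := by
    have h : LinearMap.det (ρ z) = 1 := congrArg Units.val hd
    rwa [hc, LinearMap.det_smul, LinearMap.det_id, mul_one] at h
  have hle : p ^ (k + 1) ≤ Module.finrank ℂ (Fin n → ℂ) := by
    refine Nat.le_of_dvd (finrank_pos_of_isIrreducible ρ) ?_
    rw [← hord]
    exact orderOf_dvd_of_pow_eq_one hdn
  -- the first orthogonality relation
  have horth := classInner_isIrr_self (isIrrCharacter_character ρ)
  rw [Cfsg.classInner, inv_mul_eq_one₀ natCard_ne_zero] at horth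
  have hsum : (∑ g : G, Complex.normSq (ρ.character g)) = (Nat.card G : ℝ) := by
    have : ((∑ g : G, Complex.normSq (ρ.character g) : ℝ) : ℂ) = ((Nat.card G : ℝ) : ℂ) := by
      push_cast
      rw [horth]
      exact Finset.sum_congr rfl fun g _ => (Complex.mul_conj _).symm
    exact Complex.ofReal_inj.mp this
  have hval : ∀ w ∈ Z, Complex.normSq (ρ.character w) = (Module.finrank ℂ (Fin n → ℂ) : ℝ) ^ 2 := by
    intro w hw
    obtain ⟨b, hb⟩ := central_scalar ρ (hZ hw)
    rw [Complex.normSq_eq_norm_sq, (norm_char_eq_iff_scalar ρ w).mpr ⟨b, hb⟩]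
  have hbound : (Nat.card Z : ℝ) * (Module.finrank ℂ (Fin n → ℂ) : ℝ) ^ 2 ≤ (Nat.card G : ℝ) := by
    rw [← hsum]
    refine le_trans (le_of_eq ?_) (Finset.sum_le_sum_of_subset_of_nonneg
      (Finset.subset_univ (Finset.univ.filter (· ∈ Z))) fun g _ _ => Complex.normSq_nonneg _)
    rw [Finset.sum_congr rfl (g := fun _ => (Module.finrank ℂ (Fin n → ℂ) : ℝ) ^ 2)
      (fun w hw => hval w (Finset.mem_filter.mp hw).2), Finset.sum_const, nsmul_eq_mul,
      Nat.card_eq_fintype_card, Fintype.card_subtype]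
  have hbound' : Nat.card Z * Module.finrank ℂ (Fin n → ℂ) ^ 2 ≤ Nat.card G := by
    exact_mod_cast hbound
  rw [← Subgroup.index_mul_card Z, mul_comm Z.index] at hbound'
  exact (Nat.pow_le_pow_left hle 2).trans (Nat.le_of_mul_le_mul_left hbound' Nat.card_pos)

/-- `e ^ 2 ≤ |Q|` for an element of prime power order `e` of the multiplier. -/
theorem sq_orderOf_le_card {Q : Type*} [Group Q] [Finite Q] {A : Type*} [CommGroup A]
    (hA : Cfsg.HasSchurMultiplier Q A) {p a : ℕ} (hp : p.Prime) {y : A}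
    (ho : orderOf y = p ^ a) : (p ^ a) ^ 2 ≤ Nat.card Q := by
  obtain ⟨⟨Γ, _, _, σ, hσ, ⟨e⟩⟩, -⟩ := hA
  have hidx : σ.ker.index = Nat.card Q := by
    rw [Subgroup.index_ker, MonoidHom.range_eq_top.mpr hσ.1, Subgroup.card_top]
  rw [← hidx]
  refine sq_orderOf_le_index σ.ker hσ.2.1 hp (hσ.2.1 (e.symm y).2) (hσ.2.2 (e.symm y).2) ?_
  rw [Subgroup.orderOf_coe, MulEquiv.orderOf_eq, ho]

end CfsgLib.SchurTheory
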