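import Cfsg.Agent.SchurTheory.Basic
import Mathlib.GroupTheory.Transfer
import Mathlib.GroupTheory.FreeGroup.NielsenSchreier

/-!
# Restriction and corestriction of Schur multipliers

For a free presentation `π : F →* Q` and `U ≤ Q`, the preimage `H` of `U` is free and presents `U`.
Inclusion gives the corestriction `multSub π_U →* multSub π`, and the product over the cosets of
`H` of the conjugates gives the restriction in the other direction; the composite is the power by
the index of `U`.
-/

set_option autoImplicit false
set_option linter.style.haveILetI false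

namespace CfsgLib.SchurTheory

open Subgroup

universe u v

section Restriction

variable {F : Type v} [Group F] {Q : Type u} [Group Q] (π : F →* Q) (U : Subgroup Q)

/-- The central kernel is commutative. -/
instance covKerCommGroup : CommGroup (covMap π).ker :=
  { (inferInstance : Group (covMap π).ker) with
    mul_comm := fun a b => Subtype.ext
      (mem_center_iff.mp (covMap_ker_le_center π b.2) a.1) }

/-- The kernel of `π` maps onto the kernel of `covMap π`. -/
def kerToCov : π.ker →* (covMap π).ker :=
  ((QuotientGroup.mk' (covRel π)).comp π.ker.subtype).codRestrict _ fun x => x.2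

theorem kerToCov_surjective : Function.Surjective (kerToCov π) := by
  rintro ⟨x, hx⟩
  obtain ⟨f, rfl⟩ := QuotientGroup.mk'_surjective (covRel π) x
  exact ⟨⟨f, hx⟩, rfl⟩

/-- Inclusion of the preimage of `U`. -/
def coresHom : Cov (π.subgroupComap U) →* Cov π :=
  QuotientGroup.lift _ ((QuotientGroup.mk' (covRel π)).comp (U.comap π).subtype) <| by
    rw [covRel, commutator_le]
    intro r hr x _
    rw [MonoidHom.mem_ker, MonoidHom.comp_apply, QuotientGroup.mk'_apply,
      QuotientGroup.eq_one_iff]
    refine commutator_mem_commutator ?_ (mem_top _)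
    exact congrArg Subtype.val (MonoidHom.mem_ker.mp hr)

theorem covMap_coresHom (z : Cov (π.subgroupComap U)) :
    covMap π (coresHom π U z) = (covMap (π.subgroupComap U) z : Q) := by
  obtain ⟨f, rfl⟩ := QuotientGroup.mk'_surjective _ z
  rfl

/-- Corestriction on the central kernels. -/
def coresKer : (covMap (π.subgroupComap U)).ker →* (covMap π).ker :=
  ((coresHom π U).comp (covMap (π.subgroupComap U)).ker.subtype).codRestrict _ fun x => by
    rw [MonoidHom.mem_ker, MonoidHom.comp_apply, covMap_coresHom]
    exact congrArg Subtype.val (MonoidHom.mem_ker.mp x.2)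

/-- Corestriction. -/
def cores : multSub (π.subgroupComap U) →* multSub π :=
  ((coresHom π U).comp (multSub (π.subgroupComap U)).subtype).codRestrict _ fun x => by
    refine ⟨?_, ?_⟩
    · exact (coresKer π U ⟨x.1, x.2.1⟩).2
    · have h := mem_map_of_mem (coresHom π U) x.2.2
      rw [commutator_def, Subgroup.map_commutator] at h
      exact commutator_mono le_top le_top h

theorem conj_mem_comap (g : F) (x : π.ker) : g⁻¹ * (x : F) * g ∈ U.comap π := by
  rw [Subgroup.mem_comap, map_mul, map_mul, MonoidHom.mem_ker.mp x.2, mul_one, map_inv,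
    inv_mul_cancel]
  exact one_mem U

/-- Conjugation of the kernel into the preimage of `U`. -/
def conjHom (g : F) : π.ker →* U.comap π where
  toFun x := ⟨g⁻¹ * (x : F) * g, conj_mem_comap π U g x⟩
  map_one' := Subtype.ext (by simp)
  map_mul' x y := Subtype.ext (by
    show g⁻¹ * ((x * y : π.ker) : F) * g = g⁻¹ * (x : F) * g * (g⁻¹ * (y : F) * g)
    rw [Subgroup.coe_mul]
    group)

/-- A conjugate of an element of the kernel, in the central kernel over `U`. -/
def conjKer (g : F) : π.ker →* (covMap (π.subgroupComap U)).ker :=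
  ((QuotientGroup.mk' (covRel (π.subgroupComap U))).comp (conjHom π U g)).codRestrict _ fun x => by
    refine Subtype.ext ?_
    show π (g⁻¹ * (x : F) * g) = 1
    rw [map_mul, map_mul, MonoidHom.mem_ker.mp x.2, mul_one, map_inv, inv_mul_cancel]

theorem conjKer_eq {g g' : F} (h : g⁻¹ * g' ∈ U.comap π) : conjKer π U g = conjKer π U g' := by
  refine MonoidHom.ext fun x => Subtype.ext ?_
  have hc := covMap_ker_le_center (π.subgroupComap U) (conjKer π U g x).2
  let m : U.comap π := ⟨g⁻¹ * g', h⟩
  have e : (conjKer π U g' x).1 = (QuotientGroup.mk' (covRel (π.subgroupComap U)) m)⁻¹ *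
      (conjKer π U g x).1 * QuotientGroup.mk' (covRel (π.subgroupComap U)) m := by
    show QuotientGroup.mk' _ _ = (QuotientGroup.mk' _ _)⁻¹ * QuotientGroup.mk' _ _ *
      QuotientGroup.mk' _ _
    rw [← map_inv, ← map_mul, ← map_mul]
    refine congrArg _ (Subtype.ext ?_)
    show g'⁻¹ * (x : F) * g' = (g⁻¹ * g')⁻¹ * (g⁻¹ * (x : F) * g) * (g⁻¹ * g')
    group
  rw [e, mul_assoc, ← mem_center_iff.mp hc, inv_mul_cancel_left]

/-- `conjKer` as a function of the coset. -/
def conjKerCoset : F ⧸ U.comap π → (π.ker →* (covMap (π.subgroupComap U)).ker) :=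
  fun q => Quotient.liftOn' q (conjKer π U) fun _ _ h =>
    conjKer_eq π U (QuotientGroup.leftRel_apply.mp h)

theorem conjKerCoset_mk (g : F) : conjKerCoset π U g = conjKer π U g := rfl

variable [(U.comap π).FiniteIndex]

/-- The product of the conjugates. -/
noncomputable def normKer : π.ker →* (covMap (π.subgroupComap U)).ker :=
  letI := (U.comap π).fintypeQuotientOfFiniteIndex
  ∏ q : F ⧸ U.comap π, conjKerCoset π U q

theorem normKer_apply (x : π.ker) :
    letI := (U.comap π).fintypeQuotientOfFiniteIndex
    normKer π U x = ∏ q : F ⧸ U.comap π, conjKerCoset π U q x := by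
  letI := (U.comap π).fintypeQuotientOfFiniteIndex
  exact MonoidHom.finsetProd_apply _ _ _

theorem normKer_conj (f : F) (x : π.ker) :
    normKer π U ⟨f * (x : F) * f⁻¹, π.normal_ker.conj_mem _ x.2 f⟩ = normKer π U x := by
  letI := (U.comap π).fintypeQuotientOfFiniteIndex
  rw [normKer_apply, normKer_apply]
  refine Fintype.prod_equiv (MulAction.toPerm f⁻¹) _ _ fun q => ?_
  induction q using QuotientGroup.induction_on with
  | H g =>
    show conjKer π U g _ = conjKer π U (f⁻¹ * g) x
    refine Subtype.ext (congrArg (QuotientGroup.mk' (covRel (π.subgroupComap U))) (Subtype.ext ?_))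
    show g⁻¹ * (f * (x : F) * f⁻¹) * g = (f⁻¹ * g)⁻¹ * (x : F) * (f⁻¹ * g)
    group

theorem kerToCov_ker_le : (kerToCov π).ker ≤ (normKer π U).ker := by
  intro x hx
  have h : covRel π ≤ (normKer π U).ker.map π.ker.subtype := by
    rw [covRel, commutator_le]
    intro r hr f _
    let r' : π.ker := ⟨r, hr⟩
    let s : π.ker := ⟨f * ((r'⁻¹ : π.ker) : F) * f⁻¹, π.normal_ker.conj_mem _ (r'⁻¹).2 f⟩
    refine ⟨r' * s, ?_, ?_⟩
    · rw [SetLike.mem_coe, MonoidHom.mem_ker, map_mul, normKer_conj, map_inv, mul_inv_cancel]
    · show r * (f * r⁻¹ * f⁻¹) = r * f * r⁻¹ * f⁻¹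
      group
  obtain ⟨y, hy, e⟩ := h ((QuotientGroup.eq_one_iff _).mp (congrArg Subtype.val hx))
  rw [← Subtype.ext (show (y : F) = x from e)]
  exact hy

/-- Restriction on the central kernels. -/
noncomputable def resKer : (covMap π).ker →* (covMap (π.subgroupComap U)).ker :=
  (kerToCov π).liftOfSurjective (kerToCov_surjective π) ⟨normKer π U, kerToCov_ker_le π U⟩

theorem resKer_kerToCov (x : π.ker) : resKer π U (kerToCov π x) = normKer π U x :=
  (kerToCov π).liftOfRightInverse_comp_apply _ _ ⟨normKer π U, kerToCov_ker_le π U⟩ x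

/-- The transfer to the abelianization of the cover of `U`, on the kernel. -/
theorem transfer_eq_of_normKer (x : π.ker) :
    MonoidHom.transfer (Abelianization.of.comp (QuotientGroup.mk' (covRel (π.subgroupComap U))))
        (x : F) = Abelianization.of (normKer π U x).1 := by
  letI := (U.comap π).fintypeQuotientOfFiniteIndex
  let T : (U.comap π).LeftTransversal :=
    ⟨Set.range (Quotient.out : F ⧸ U.comap π → F),
      isComplement_range_left fun q => QuotientGroup.out_eq' q⟩
  have hT : ∀ q : F ⧸ U.comap π, ((T.2.leftQuotientEquiv q : T.1) : F) = q.out := fun q =>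
    IsComplement.leftQuotientEquiv_apply (fun q => QuotientGroup.out_eq' q) q
  have hfix : ∀ q : F ⧸ U.comap π, (x : F)⁻¹ • q = q := fun q => by
    induction q using QuotientGroup.induction_on with
    | H g =>
      refine QuotientGroup.eq.mpr ?_
      show ((x : F)⁻¹ * g)⁻¹ * g ∈ U.comap π
      rw [Subgroup.mem_comap, mul_inv_rev, inv_inv, map_mul, map_mul,
        MonoidHom.mem_ker.mp x.2, mul_one, map_inv, inv_mul_cancel]
      exact one_mem U
  have hr : Abelianization.of (normKer π U x).1 =
      (Abelianization.of.comp (covMap (π.subgroupComap U)).ker.subtype) (normKer π U x) := rfl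
  rw [MonoidHom.transfer_def _ T, hr, normKer_apply, map_prod]
  refine Finset.prod_congr rfl fun q _ => ?_
  rw [show conjKerCoset π U q = conjKer π U q.out by
    rw [← conjKerCoset_mk, QuotientGroup.out_eq']]
  refine congrArg (fun y => Abelianization.of (QuotientGroup.mk' _ y)) (Subtype.ext ?_)
  show ((T.2.leftQuotientEquiv q : T.1) : F)⁻¹ * (((x : F) • T).2.leftQuotientEquiv q : F) =
    q.out⁻¹ * (x : F) * q.out
  rw [mul_assoc, Subgroup.smul_apply_eq_smul_apply_inv_smul, hfix, hT]
  rfl

theorem resKer_mem_commutator (z : (covMap π).ker) (hz : (z : Cov π) ∈ commutator (Cov π)) :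
    (resKer π U z : Cov (π.subgroupComap U)) ∈ commutator (Cov (π.subgroupComap U)) := by
  have hs : (commutator F).map (QuotientGroup.mk' (covRel π)) = commutator (Cov π) := by
    rw [commutator_def, Subgroup.map_commutator,
      map_top_of_surjective _ (QuotientGroup.mk'_surjective _), ← commutator_def]
  obtain ⟨f, hf, e⟩ := hs.ge hz
  have hfk : f ∈ π.ker := by
    have h := z.2
    rw [← e] at h
    exact h
  rw [show z = kerToCov π ⟨f, hfk⟩ from Subtype.ext e.symm, resKer_kerToCov, ← Abelianization.ker_of,
    MonoidHom.mem_ker, ← transfer_eq_of_normKer]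
  exact Abelianization.commutator_subset_ker _ hf

/-- Restriction. -/
noncomputable def res : multSub π →* multSub (π.subgroupComap U) :=
  (((covMap (π.subgroupComap U)).ker.subtype.comp (resKer π U)).comp
    (Subgroup.inclusion (inf_le_left : multSub π ≤ (covMap π).ker))).codRestrict _ fun x =>
      ⟨(resKer π U _).2, resKer_mem_commutator π U ⟨x.1, x.2.1⟩ x.2.2⟩

theorem coresKer_resKer (z : (covMap π).ker) :
    coresKer π U (resKer π U z) = z ^ (U.comap π).index := by
  letI := (U.comap π).fintypeQuotientOfFiniteIndex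
  obtain ⟨x, rfl⟩ := kerToCov_surjective π z
  rw [resKer_kerToCov, normKer_apply, map_prod,
    Finset.prod_congr rfl (g := fun _ => kerToCov π x) fun q _ => ?_, Finset.prod_const,
    Finset.card_univ, ← Nat.card_eq_fintype_card, Subgroup.index]
  induction q using QuotientGroup.induction_on with
  | H g =>
    rw [conjKerCoset_mk]
    refine Subtype.ext ?_
    show (QuotientGroup.mk' (covRel π)) (g⁻¹ * (x : F) * g) = QuotientGroup.mk' (covRel π) x
    have hc : QuotientGroup.mk' (covRel π) (x : F) ∈ center (Cov π) :=
      covMap_ker_le_center π (kerToCov π x).2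
    rw [map_mul, map_mul, map_inv, mul_assoc, ← mem_center_iff.mp hc, inv_mul_cancel_left]

theorem cores_res (x : multSub π) : cores π U (res π U x) = x ^ (U.comap π).index := by
  refine Subtype.ext ?_
  have h := congrArg Subtype.val (coresKer_resKer π U ⟨x.1, x.2.1⟩)
  rw [SubmonoidClass.coe_pow] at h
  rw [SubmonoidClass.coe_pow]
  exact h

end Restriction

section Multiplier

variable {Q : Type u} [Group Q] [Finite Q]

/-- Restriction and corestriction between the multipliers of `Q` and of a subgroup. -/
theorem exists_res_cores (U : Subgroup Q) {A B : Type*} [CommGroup A] [CommGroup B]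
    (hA : Cfsg.HasSchurMultiplier Q A) (hB : Cfsg.HasSchurMultiplier U B) :
    ∃ (r : A →* B) (c : B →* A), ∀ a, c (r a) = a ^ U.index := by
  have hi : (U.comap (canon Q)).index = U.index :=
    index_comap_of_surjective U (canon_surjective Q)
  haveI : (U.comap (canon Q)).FiniteIndex := ⟨by rw [hi]; exact U.index_ne_zero_of_finite⟩
  haveI : IsFreeGroup (U.comap (canon Q)) := subgroupIsFreeOfIsFree _
  obtain ⟨a⟩ := hasSchurMultiplier_iff.mp hA
  obtain ⟨b⟩ := hasSchurMultiplier_iff.mp hB
  obtain ⟨e⟩ := nonempty_multSub_mulEquiv ((canon Q).subgroupComap U) (canon U)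
    (MonoidHom.subgroupComap_surjective_of_surjective _ _ (canon_surjective Q)) (canon_surjective U)
  refine ⟨(e.trans b.symm).toMonoidHom.comp ((res (canon Q) U).comp a.toMonoidHom),
    a.symm.toMonoidHom.comp ((cores (canon Q) U).comp (b.trans e.symm).toMonoidHom), fun x => ?_⟩
  simp only [MonoidHom.comp_apply, MulEquiv.coe_toMonoidHom, MulEquiv.trans_apply,
    MulEquiv.apply_symm_apply, MulEquiv.symm_apply_apply, cores_res, map_pow, hi]

end Multiplier

end CfsgLib.SchurTheory
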