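import Mathlib.GroupTheory.FiniteAbelian.Duality
import Mathlib.RingTheory.RootsOfUnity.AlgebraicallyClosed
import Mathlib.Analysis.Complex.Polynomial.Basic

/-!
# A subquotient of a finite abelian group is isomorphic to a subgroup
-/

set_option autoImplicit false
set_option linter.style.haveILetI false

namespace CfsgLib.SchurTheory

theorem nonempty_dual_mulEquiv (T : Type*) [CommGroup T] [Finite T] :
    Nonempty ((T →* ℂˣ) ≃* T) := by
  haveI : NeZero ((Monoid.exponent T : ℕ) : ℂ) :=
    ⟨Nat.cast_ne_zero.mpr Monoid.exponent_ne_zero_of_finite⟩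
  exact CommGroup.monoidHom_mulEquiv_of_hasEnoughRootsOfUnity T ℂ

theorem exists_subgroup_mulEquiv_of_surjective {B T : Type*} [CommGroup B] [Finite B] [CommGroup T]
    (S : Subgroup B) (f : S →* T) (hf : Function.Surjective f) :
    ∃ C : Subgroup B, Nonempty (T ≃* C) := by
  haveI : Finite T := Finite.of_surjective f hf
  obtain ⟨eT⟩ := nonempty_dual_mulEquiv T
  obtain ⟨eS⟩ := nonempty_dual_mulEquiv S
  let pre : (T →* ℂˣ) →* (S →* ℂˣ) :=
    { toFun := fun φ => φ.comp f
      map_one' := MonoidHom.one_comp f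
      map_mul' := fun φ ψ => MonoidHom.mul_comp φ ψ f }
  have hpre : Function.Injective pre := fun φ ψ h => MonoidHom.ext fun t => by
    obtain ⟨s, rfl⟩ := hf t
    exact DFunLike.congr_fun h s
  let ι : T →* B := (S.subtype.comp eS.toMonoidHom).comp (pre.comp eT.symm.toMonoidHom)
  have hι : Function.Injective ι :=
    (S.subtype_injective.comp eS.injective).comp (hpre.comp eT.symm.injective)
  exact ⟨ι.range, ⟨MonoidHom.ofInjective hι⟩⟩

end CfsgLib.SchurTheory
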