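import Cfsg.Agent.SchurTheory.Basic
import Mathlib.LinearAlgebra.TensorProduct.Basic
import Mathlib.GroupTheory.NoncommCoprod

/-!
# The Schur multiplier of a direct product

`mult (Q₁ × Q₂) ≅ mult Q₁ × mult Q₂ × (Q₁ᵃᵇ ⊗ Q₂ᵃᵇ)`: commutators of lifts give a surjection from
the right hand side, and a central extension built with the bilinear cocycle `⊗` shows that it is
injective.
-/

set_option autoImplicit false
set_option linter.style.haveILetI false

namespace CfsgLib.SchurTheory

open Subgroup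
open scoped commutatorElement TensorProduct

universe u v

/-- The extension of a group by a commutative group with a bimultiplicative cocycle. -/
@[ext]
structure BilExt {G T : Type*} [Group G] [CommGroup T] (β : G →* G →* T) where
  /-- The group component. -/
  base : G
  /-- The central component. -/
  val : T

namespace BilExt

variable {G T : Type*} [Group G] [CommGroup T] {β : G →* G →* T}

instance : Group (BilExt β) where
  mul x y := ⟨x.base * y.base, x.val * y.val * β x.base y.base⟩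
  one := ⟨1, 1⟩
  inv x := ⟨x.base⁻¹, x.val⁻¹ * β x.base x.base⟩
  mul_assoc x y z := by
    refine BilExt.ext (mul_assoc _ _ _) ?_
    show x.val * y.val * β x.base y.base * z.val * β (x.base * y.base) z.base =
      x.val * (y.val * z.val * β y.base z.base) * β x.base (y.base * z.base)
    rw [map_mul β, MonoidHom.mul_apply, map_mul]
    simp only [mul_assoc, mul_left_comm, mul_comm]
  one_mul x := by
    refine BilExt.ext (one_mul _) ?_
    show 1 * x.val * β 1 x.base = x.val
    rw [one_mul, map_one β, MonoidHom.one_apply, mul_one]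
  mul_one x := by
    refine BilExt.ext (mul_one _) ?_
    show x.val * 1 * β x.base 1 = x.val
    rw [map_one, mul_one, mul_one]
  inv_mul_cancel x := by
    refine BilExt.ext (inv_mul_cancel _) ?_
    show x.val⁻¹ * β x.base x.base * x.val * β x.base⁻¹ x.base = 1
    rw [map_inv β, MonoidHom.inv_apply, mul_right_comm x.val⁻¹, inv_mul_cancel, one_mul,
      mul_inv_cancel]

theorem mul_base (x y : BilExt β) : (x * y).base = x.base * y.base := rfl

theorem mul_val (x y : BilExt β) : (x * y).val = x.val * y.val * β x.base y.base := rfl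

theorem one_base : (1 : BilExt β).base = 1 := rfl

theorem one_val : (1 : BilExt β).val = 1 := rfl

/-- The projection. -/
def proj : BilExt β →* G where
  toFun x := x.base
  map_one' := rfl
  map_mul' _ _ := rfl

/-- The central factor. -/
def incl : T →* BilExt β where
  toFun t := ⟨1, t⟩
  map_one' := rfl
  map_mul' s t := BilExt.ext (one_mul 1).symm (by
    show s * t = s * t * β 1 1
    rw [map_one, mul_one])

/-- A homomorphism into the base on whose image the cocycle is trivial lifts. -/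
def liftHom {H : Type*} [Group H] (f : H →* G) (h : ∀ a b, β (f a) (f b) = 1) :
    H →* BilExt β where
  toFun a := ⟨f a, 1⟩
  map_one' := BilExt.ext (map_one f) rfl
  map_mul' a b := BilExt.ext (map_mul f a b) (by
    show 1 = 1 * 1 * β (f a) (f b)
    rw [h, mul_one, mul_one])

end BilExt

section Tensor

variable {A B M : Type*} [CommGroup A] [CommGroup B] [CommGroup M]

/-- The homomorphism on the tensor product induced by a bimultiplicative map. -/
noncomputable def tensorLift (f : A →* B →* M) :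
    Multiplicative (Additive A ⊗[ℤ] Additive B) →* M :=
  AddMonoidHom.toMultiplicativeLeft <| TensorProduct.liftAddHom
    (AddMonoidHom.mk' (fun a => MonoidHom.toAdditive (f a.toMul)) fun a a' =>
      AddMonoidHom.ext fun b => by simp)
    fun r a b => by simp [map_zsmul]

theorem tensorLift_tmul (f : A →* B →* M) (a : A) (b : B) :
    tensorLift f (Multiplicative.ofAdd (Additive.ofMul a ⊗ₜ[ℤ] Additive.ofMul b)) = f a b := by
  simp [tensorLift]

theorem tensor_mem {Δ : Type*} [Group Δ] (S : Subgroup Δ)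
    (g : Multiplicative (Additive A ⊗[ℤ] Additive B) →* Δ)
    (h : ∀ a b, g (Multiplicative.ofAdd (a ⊗ₜ[ℤ] b)) ∈ S)
    (t : Multiplicative (Additive A ⊗[ℤ] Additive B)) : g t ∈ S := by
  obtain ⟨x, rfl⟩ := Multiplicative.ofAdd.surjective t
  induction x using TensorProduct.induction_on with
  | zero => rw [ofAdd_zero, map_one]; exact one_mem S
  | tmul a b => exact h a b
  | add x y hx hy => rw [ofAdd_add, map_mul]; exact mul_mem hx hy

end Tensor

section Product

variable (Q₁ : Type u) (Q₂ : Type v) [Group Q₁] [Group Q₂]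

/-- The tensor product of the abelianizations, multiplicatively. -/
abbrev AbTensor : Type (max u v) :=
  Multiplicative (Additive (Abelianization Q₁) ⊗[ℤ] Additive (Abelianization Q₂))

variable {Q₁ Q₂}

/-- The cocycle. -/
noncomputable def tensorCocycle :
    Cov (canon Q₁) × Cov (canon Q₂) →* Cov (canon Q₁) × Cov (canon Q₂) →* AbTensor Q₁ Q₂ :=
  MonoidHom.mk' (fun x => MonoidHom.mk'
    (fun y => Multiplicative.ofAdd
      (Additive.ofMul (Abelianization.of (covMap (canon Q₁) y.1)) ⊗ₜ[ℤ]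
        Additive.ofMul (Abelianization.of (covMap (canon Q₂) x.2))))
    fun y y' => by
      simp only [Prod.fst_mul, map_mul, ofMul_mul, TensorProduct.add_tmul, ofAdd_add])
    fun x x' => MonoidHom.ext fun y => by
      simp only [MonoidHom.mk'_apply, MonoidHom.mul_apply, Prod.snd_mul, map_mul, ofMul_mul,
        TensorProduct.tmul_add, ofAdd_add]

theorem tensorCocycle_apply (x y : Cov (canon Q₁) × Cov (canon Q₂)) :
    tensorCocycle x y = Multiplicative.ofAdd
      (Additive.ofMul (Abelianization.of (covMap (canon Q₁) y.1)) ⊗ₜ[ℤ]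
        Additive.ofMul (Abelianization.of (covMap (canon Q₂) x.2))) := rfl

/-- The classes of commutators of lifts give a bimultiplicative map. -/
theorem exists_commutatorHom :
    ∃ f : Abelianization Q₁ →* Abelianization Q₂ →* mult (Q₁ × Q₂),
      ∀ x y : Cov (canon (Q₁ × Q₂)), (covMap (canon (Q₁ × Q₂)) x).2 = 1 →
        (covMap (canon (Q₁ × Q₂)) y).1 = 1 →
        (f (Abelianization.of (covMap (canon (Q₁ × Q₂)) x).1)
          (Abelianization.of (covMap (canon (Q₁ × Q₂)) y).2) : Cov (canon (Q₁ × Q₂))) = ⁅x, y⁆ := by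
  obtain ⟨s, hs⟩ : ∃ s : Q₁ × Q₂ → Cov (canon (Q₁ × Q₂)), ∀ q, covMap (canon (Q₁ × Q₂)) (s q) = q :=
    ⟨_, Function.surjInv_eq (covMap_surjective _ (canon_surjective _))⟩
  set σ := covMap (canon (Q₁ × Q₂)) with hσ
  have hc := covMap_ker_le_center (canon (Q₁ × Q₂))
  have hmem : ∀ q₁ q₂, ⁅s (q₁, 1), s (1, q₂)⁆ ∈ multSub (canon (Q₁ × Q₂)) := fun q₁ q₂ => by
    refine ⟨?_, commutator_mem_commutator (mem_top _) (mem_top _)⟩
    show σ _ = 1
    rw [map_commutatorElement, hs, hs,
      commutatorElement_eq_one_iff_mul_comm]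
    exact Prod.ext (by simp) (by simp)
  have hwd : ∀ x y, (σ x).2 = 1 → (σ y).1 = 1 →
      ⁅x, y⁆ = ⁅s ((σ x).1, 1), s (1, (σ y).2)⁆ := by
    intro x y hx hy
    have e1 : σ (s ((σ x).1, 1)) = σ x := by rw [hs]; exact Prod.ext rfl hx.symm
    have e2 : σ (s (1, (σ y).2)) = σ y := by rw [hs]; exact Prod.ext hy.symm rfl
    have c1 : (s ((σ x).1, 1))⁻¹ * x ∈ center _ := hc (by
      rw [MonoidHom.mem_ker, map_mul, map_inv, e1, inv_mul_cancel])
    have c2 : (s (1, (σ y).2))⁻¹ * y ∈ center _ := hc (by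
      rw [MonoidHom.mem_ker, map_mul, map_inv, e2, inv_mul_cancel])
    conv_lhs => rw [← mul_inv_cancel_left (s ((σ x).1, 1)) x,
      ← mul_inv_cancel_left (s (1, (σ y).2)) y]
    exact commutatorElement_mul_mem_center c1 c2
  have hmul₁ : ∀ (a b y : Cov (canon (Q₁ × Q₂))), ⁅b, y⁆ ∈ center (Cov (canon (Q₁ × Q₂))) →
      ⁅a * b, y⁆ = ⁅a, y⁆ * ⁅b, y⁆ := by
    intro a b y h
    calc ⁅a * b, y⁆ = a * ⁅b, y⁆ * a⁻¹ * ⁅a, y⁆ := by simp only [commutatorElement_def]; group
      _ = ⁅b, y⁆ * ⁅a, y⁆ := by rw [mem_center_iff.mp h a, mul_inv_cancel_right]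
      _ = ⁅a, y⁆ * ⁅b, y⁆ := (mem_center_iff.mp h ⁅a, y⁆).symm
  have hmul₂ : ∀ (x a b : Cov (canon (Q₁ × Q₂))), ⁅x, b⁆ ∈ center (Cov (canon (Q₁ × Q₂))) →
      ⁅x, a * b⁆ = ⁅x, a⁆ * ⁅x, b⁆ := by
    intro x a b h
    calc ⁅x, a * b⁆ = ⁅x, a⁆ * (a * ⁅x, b⁆ * a⁻¹) := by simp only [commutatorElement_def]; group
      _ = ⁅x, a⁆ * ⁅x, b⁆ := by rw [mem_center_iff.mp h a, mul_inv_cancel_right]
  let c : Q₁ → Q₂ → mult (Q₁ × Q₂) := fun q₁ q₂ => ⟨⁅s (q₁, 1), s (1, q₂)⁆, hmem q₁ q₂⟩
  have hc₁ : ∀ a a' b, c (a * a') b = c a b * c a' b := fun a a' b => Subtype.ext <| by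
    show ⁅s (a * a', 1), s (1, b)⁆ = ⁅s (a, 1), s (1, b)⁆ * ⁅s (a', 1), s (1, b)⁆
    rw [← hmul₁ _ _ _ (multSub_le_center _ (hmem a' b)),
      hwd (s (a, 1) * s (a', 1)) (s (1, b)) (by rw [map_mul, hs, hs]; simp) (by rw [hs]),
      map_mul, hs, hs, hs]
    rfl
  have hc₂ : ∀ a b b', c a (b * b') = c a b * c a b' := fun a b b' => Subtype.ext <| by
    show ⁅s (a, 1), s (1, b * b')⁆ = ⁅s (a, 1), s (1, b)⁆ * ⁅s (a, 1), s (1, b')⁆
    rw [← hmul₂ _ _ _ (multSub_le_center _ (hmem a b')),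
      hwd (s (a, 1)) (s (1, b) * s (1, b')) (by rw [hs]) (by rw [map_mul, hs, hs]; simp),
      map_mul, hs, hs, hs]
    rfl
  let g : Q₁ → (Abelianization Q₂ →* mult (Q₁ × Q₂)) := fun a =>
    Abelianization.lift (MonoidHom.mk' (c a) (hc₂ a))
  let G : Q₁ →* (Abelianization Q₂ →* mult (Q₁ × Q₂)) := MonoidHom.mk' g fun a a' => by
    refine Abelianization.hom_ext _ _ (MonoidHom.ext fun b => ?_)
    simp only [g, MonoidHom.comp_apply, MonoidHom.mul_apply, Abelianization.lift_apply_of,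
      MonoidHom.mk'_apply]
    exact hc₁ a a' b
  refine ⟨Abelianization.lift G, fun x y hx hy => ?_⟩
  simp only [G, g, Abelianization.lift_apply_of, MonoidHom.mk'_apply]
  exact (hwd x y hx hy).symm

/-- The surjection from the product. -/
theorem exists_surjective_prod :
    ∃ f : mult Q₁ × mult Q₂ × AbTensor Q₁ Q₂ →* mult (Q₁ × Q₂), Function.Surjective f := by
  set σ := covMap (canon (Q₁ × Q₂)) with hσdef
  have hσ : Function.Surjective σ := covMap_surjective _ (canon_surjective _)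
  have hc := covMap_ker_le_center (canon (Q₁ × Q₂))
  obtain ⟨φ₁, hφ₁⟩ := exists_lift (canon Q₁) σ hc (MonoidHom.inl Q₁ Q₂) fun _ => hσ _
  obtain ⟨φ₂, hφ₂⟩ := exists_lift (canon Q₂) σ hc (MonoidHom.inr Q₁ Q₂) fun _ => hσ _
  have hm₁ : ∀ x : mult Q₁, φ₁ x.1 ∈ multSub (canon (Q₁ × Q₂)) := fun x => by
    refine ⟨?_, ?_⟩
    · show σ _ = 1
      rw [← MonoidHom.comp_apply, hφ₁, MonoidHom.comp_apply,
        MonoidHom.mem_ker.mp x.2.1, map_one]
    · have h := mem_map_of_mem φ₁ x.2.2
      rw [_root_.commutator_def, Subgroup.map_commutator] at h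
      exact commutator_mono le_top le_top h
  have hm₂ : ∀ x : mult Q₂, φ₂ x.1 ∈ multSub (canon (Q₁ × Q₂)) := fun x => by
    refine ⟨?_, ?_⟩
    · show σ _ = 1
      rw [← MonoidHom.comp_apply, hφ₂, MonoidHom.comp_apply,
        MonoidHom.mem_ker.mp x.2.1, map_one]
    · have h := mem_map_of_mem φ₂ x.2.2
      rw [_root_.commutator_def, Subgroup.map_commutator] at h
      exact commutator_mono le_top le_top h
  obtain ⟨bh, hbh⟩ := exists_commutatorHom (Q₁ := Q₁) (Q₂ := Q₂)
  let f₁ : mult Q₁ →* mult (Q₁ × Q₂) := (φ₁.comp (multSub (canon Q₁)).subtype).codRestrict _ hm₁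
  let f₂ : mult Q₂ →* mult (Q₁ × Q₂) := (φ₂.comp (multSub (canon Q₂)).subtype).codRestrict _ hm₂
  let fT : AbTensor Q₁ Q₂ →* mult (Q₁ × Q₂) := tensorLift bh
  refine ⟨f₁.coprod (f₂.coprod fT), ?_⟩
  -- the image of the tensor part is central
  let C : Subgroup (Cov (canon (Q₁ × Q₂))) := fT.range.map (multSub (canon (Q₁ × Q₂))).subtype
  have hCm : C ≤ multSub (canon (Q₁ × Q₂)) := map_subtype_le _
  haveI : C.Normal := ⟨fun x hx g => by
    rw [mem_center_iff.mp (multSub_le_center _ (hCm hx)) g, mul_inv_cancel_right]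
    exact hx⟩
  have hCker : C ≤ σ.ker := hCm.trans inf_le_left
  let τ := QuotientGroup.lift C σ hCker
  have hτc : τ.ker ≤ center _ := by
    intro x hx
    obtain ⟨x, rfl⟩ := QuotientGroup.mk'_surjective C x
    rw [mem_center_iff]
    intro y
    obtain ⟨y, rfl⟩ := QuotientGroup.mk'_surjective C y
    rw [← map_mul, ← map_mul, mem_center_iff.mp (hc hx) y]
  have hcomm : ∀ a b, Commute (((QuotientGroup.mk' C).comp φ₁) a)
      (((QuotientGroup.mk' C).comp φ₂) b) := by
    intro a b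
    have ha : σ (φ₁ a) = (covMap (canon Q₁) a, 1) := DFunLike.congr_fun hφ₁ a
    have hb : σ (φ₂ b) = (1, covMap (canon Q₂) b) := DFunLike.congr_fun hφ₂ b
    rw [← commutatorElement_eq_one_iff_commute, MonoidHom.comp_apply, MonoidHom.comp_apply,
      ← map_commutatorElement, QuotientGroup.mk'_apply, QuotientGroup.eq_one_iff]
    refine ⟨_, ⟨Multiplicative.ofAdd (Additive.ofMul (Abelianization.of (σ (φ₁ a)).1) ⊗ₜ[ℤ]
      Additive.ofMul (Abelianization.of (σ (φ₂ b)).2)), rfl⟩, ?_⟩
    show (fT _).1 = _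
    rw [tensorLift_tmul]
    exact hbh _ _ (by rw [ha]) (by rw [hb])
  let Ψ := ((QuotientGroup.mk' C).comp φ₁).noncommCoprod ((QuotientGroup.mk' C).comp φ₂) hcomm
  have hΨ : ∀ z, Ψ z = QuotientGroup.mk' C (φ₁ z.1 * φ₂ z.2) := fun z => by
    rw [map_mul]; rfl
  have hτΨ : ∀ z, τ (Ψ z) = (covMap (canon Q₁) z.1, covMap (canon Q₂) z.2) := fun z => by
    rw [hΨ]
    show σ (φ₁ z.1 * φ₂ z.2) = _
    rw [map_mul, ← MonoidHom.comp_apply σ φ₁, hφ₁, ← MonoidHom.comp_apply σ φ₂, hφ₂]
    simp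
  have hs : Function.Surjective (τ.comp Ψ) := fun q => by
    obtain ⟨a, ha⟩ := covMap_surjective _ (canon_surjective Q₁) q.1
    obtain ⟨b, hb⟩ := covMap_surjective _ (canon_surjective Q₂) q.2
    refine ⟨(a, b), ?_⟩
    rw [MonoidHom.comp_apply, hτΨ, ha, hb]
  have hmap := map_commutator_eq τ hτc Ψ hs
  intro m
  have hmq : QuotientGroup.mk' C (m : Cov (canon (Q₁ × Q₂))) ∈ commutator _ := by
    have h := mem_map_of_mem (QuotientGroup.mk' C) m.2.2
    rw [_root_.commutator_def, Subgroup.map_commutator] at h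
    exact commutator_mono le_top le_top h
  rw [← hmap] at hmq
  obtain ⟨z, hz, hzm⟩ := hmq
  rw [SetLike.mem_coe, _root_.commutator_def, ← top_prod_top, commutator_prod_prod] at hz
  have hz1 : τ (Ψ z) = 1 := by rw [hzm]; exact m.2.1
  rw [hτΨ, Prod.mk_eq_one] at hz1
  let a : mult Q₁ := ⟨z.1, hz1.1, hz.1⟩
  let b : mult Q₂ := ⟨z.2, hz1.2, hz.2⟩
  rw [hΨ, QuotientGroup.mk'_eq_mk'] at hzm
  obtain ⟨w, ⟨t, ⟨t', rfl⟩, rfl⟩, hw⟩ := hzm
  refine ⟨(a, b, t'), Subtype.ext ?_⟩
  show φ₁ z.1 * (φ₂ z.2 * (fT t').1) = (m : Cov (canon (Q₁ × Q₂)))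
  rw [← mul_assoc]
  exact hw

/-- A central extension showing that nothing collapses. -/
theorem card_prod_le [Finite Q₁] [Finite Q₂] :
    Finite (mult Q₁ × mult Q₂ × AbTensor Q₁ Q₂) ∧
      Nat.card (mult Q₁ × mult Q₂ × AbTensor Q₁ Q₂) ≤ Nat.card (mult (Q₁ × Q₂)) := by
  let β := tensorCocycle (Q₁ := Q₁) (Q₂ := Q₂)
  let τ : BilExt β →* Q₁ × Q₂ :=
    ((covMap (canon Q₁)).prodMap (covMap (canon Q₂))).comp BilExt.proj
  have hτs : Function.Surjective τ := fun q => by
    obtain ⟨a, ha⟩ := covMap_surjective _ (canon_surjective Q₁) q.1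
    obtain ⟨b, hb⟩ := covMap_surjective _ (canon_surjective Q₂) q.2
    exact ⟨⟨(a, b), 1⟩, Prod.ext ha hb⟩
  have hτc : τ.ker ≤ center _ := by
    rintro ⟨⟨a, b⟩, t⟩ hx
    have ha : covMap (canon Q₁) a = 1 := congrArg Prod.fst hx
    have hb : covMap (canon Q₂) b = 1 := congrArg Prod.snd hx
    rw [mem_center_iff]
    rintro ⟨⟨a', b'⟩, t'⟩
    refine BilExt.ext (Prod.ext (mem_center_iff.mp (covMap_ker_le_center _ ha) a')
      (mem_center_iff.mp (covMap_ker_le_center _ hb) b')) ?_
    rw [BilExt.mul_val, BilExt.mul_val]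
    simp [β, tensorCocycle_apply, ha, hb, mul_comm]
  let l₁ : Cov (canon Q₁) →* BilExt β := BilExt.liftHom (MonoidHom.inl _ _) fun a a' => by
    simp [β, tensorCocycle_apply]
  let l₂ : Cov (canon Q₂) →* BilExt β := BilExt.liftHom (MonoidHom.inr _ _) fun b b' => by
    simp [β, tensorCocycle_apply]
  have hcd : ∀ {H : Type (max u v)} [Group H] (l : H →* BilExt β) (x : H),
      x ∈ commutator H → l x ∈ commutator (BilExt β) := by
    intro H _ l x hx
    have h := mem_map_of_mem l hx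
    rw [_root_.commutator_def, Subgroup.map_commutator] at h
    exact commutator_mono le_top le_top h
  have hT : ∀ t, BilExt.incl (β := β) t ∈ commutator (BilExt β) := by
    refine tensor_mem (commutator (BilExt β)) _ fun a b => ?_
    obtain ⟨a, rfl⟩ := Additive.ofMul.surjective a
    obtain ⟨b, rfl⟩ := Additive.ofMul.surjective b
    obtain ⟨q₁, rfl⟩ := QuotientGroup.mk_surjective a
    obtain ⟨q₂, rfl⟩ := QuotientGroup.mk_surjective b
    obtain ⟨e₁, rfl⟩ := covMap_surjective _ (canon_surjective Q₁) q₁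
    obtain ⟨e₂, rfl⟩ := covMap_surjective _ (canon_surjective Q₂) q₂
    have h : BilExt.incl (β := β) (Multiplicative.ofAdd (Additive.ofMul
        (Abelianization.of (covMap (canon Q₁) e₁)) ⊗ₜ[ℤ]
        Additive.ofMul (Abelianization.of (covMap (canon Q₂) e₂)))) = ⁅l₂ e₂, l₁ e₁⁆ := by
      rw [commutatorElement_def, eq_mul_inv_iff_mul_eq, eq_mul_inv_iff_mul_eq]
      refine BilExt.ext ?_ ?_ <;>
        simp [BilExt.mul_base, BilExt.mul_val, BilExt.incl, l₁, l₂, BilExt.liftHom, β,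
          tensorCocycle_apply]
    exact h ▸ commutator_mem_commutator (mem_top _) (mem_top _)
  let g : mult Q₁ × mult Q₂ × AbTensor Q₁ Q₂ → (τ.ker ⊓ commutator (BilExt β) : Subgroup _) :=
    fun z => ⟨l₁ z.1.1 * l₂ z.2.1.1 * BilExt.incl z.2.2, by
      refine ⟨?_, mul_mem (mul_mem ?_ ?_) (hT _)⟩
      · show ((covMap (canon Q₁)).prodMap (covMap (canon Q₂))) _ = 1
        refine Prod.ext ?_ ?_
        · show covMap (canon Q₁) (z.1.1 * 1 * 1) = 1
          rw [mul_one, mul_one]
          exact z.1.2.1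
        · show covMap (canon Q₂) (1 * z.2.1.1 * 1) = 1
          rw [mul_one, one_mul]
          exact z.2.1.2.1
      · have h := mem_map_of_mem l₁ z.1.2.2
        rw [_root_.commutator_def, Subgroup.map_commutator] at h
        exact commutator_mono le_top le_top h
      · have h := mem_map_of_mem l₂ z.2.1.2.2
        rw [_root_.commutator_def, Subgroup.map_commutator] at h
        exact commutator_mono le_top le_top h⟩
  have hg : Function.Injective g := by
    rintro ⟨m₁, m₂, t⟩ ⟨m₁', m₂', t'⟩ h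
    have h' := congrArg Subtype.val h
    have hb := congrArg BilExt.base h'
    have h1 : m₁.1 = m₁'.1 := by simpa [g, l₁, l₂, BilExt.mul_base, BilExt.liftHom, BilExt.incl] using congrArg Prod.fst hb
    have h2 : m₂.1 = m₂'.1 := by simpa [g, l₁, l₂, BilExt.mul_base, BilExt.liftHom, BilExt.incl] using congrArg Prod.snd hb
    have h3 : BilExt.incl (β := β) t = BilExt.incl t' := by
      rw [Subtype.ext h1, Subtype.ext h2] at h'
      exact mul_left_cancel h'
    rw [Subtype.ext h1, Subtype.ext h2, show t = t' from congrArg BilExt.val h3]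
  haveI : Finite (τ.ker ⊓ commutator (BilExt β) : Subgroup _) := by
    obtain ⟨f, hf⟩ := exists_mult_surjective τ hτs hτc
    exact Finite.of_surjective f hf
  refine ⟨Finite.of_injective g hg, (Nat.card_le_card_of_injective g hg).trans ?_⟩
  exact Nat.le_of_dvd Nat.card_pos (card_ker_inf_dvd τ hτs hτc)

/-- The multiplier of a direct product. -/
theorem nonempty_mult_prod [Finite Q₁] [Finite Q₂] :
    Nonempty (mult Q₁ × mult Q₂ × AbTensor Q₁ Q₂ ≃* mult (Q₁ × Q₂)) := by
  obtain ⟨f, hf⟩ := exists_surjective_prod (Q₁ := Q₁) (Q₂ := Q₂)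
  obtain ⟨hfin, hle⟩ := card_prod_le (Q₁ := Q₁) (Q₂ := Q₂)
  haveI := hfin
  exact ⟨MulEquiv.ofBijective f ((Nat.bijective_iff_surjective_and_card f).mpr
    ⟨hf, le_antisymm hle (Nat.card_le_card_of_surjective f hf)⟩)⟩

end Product

end CfsgLib.SchurTheory
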