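import Cfsg.Agent.SchurTheory.Basic
import Mathlib.GroupTheory.PresentedGroup
import Mathlib.LinearAlgebra.Dimension.Localization
import Mathlib.LinearAlgebra.Dimension.RankNullity

/-!
# The multiplier of a finitely presented finite group

The central kernel is generated by the relators, and maps with finite kernel — the multiplier — onto
a lattice of rank the number of generators.
-/

set_option autoImplicit false
set_option linter.style.haveILetI false

namespace CfsgLib.SchurTheory

open Subgroup

theorem exists_generators_multSub (n : ℕ) (rels : Finset (FreeGroup (Fin n)))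
    [Finite (PresentedGroup (rels : Set (FreeGroup (Fin n))))] :
    ∃ (k : ℕ) (g : Fin k → multSub (PresentedGroup.mk (rels : Set (FreeGroup (Fin n))))),
      k ≤ rels.card - n ∧ closure (Set.range g) = ⊤ := by
  classical
  set π := PresentedGroup.mk (rels : Set (FreeGroup (Fin n))) with hπ
  let ψ₀ : FreeGroup (Fin n) →* Multiplicative (Fin n → ℤ) :=
    FreeGroup.lift fun i => Multiplicative.ofAdd (Pi.single i 1)
  let ψ : Cov π →* Multiplicative (Fin n → ℤ) := QuotientGroup.lift _ ψ₀
    ((commutator_mono le_top le_top).trans (Abelianization.commutator_subset_ker ψ₀))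
  let χ : (Fin n → ℤ) →+ Additive (Abelianization (Cov π)) :=
    AddMonoidHom.mk' (fun v => ∑ i, v i • Additive.ofMul
      (Abelianization.of (QuotientGroup.mk' (covRel π) (FreeGroup.of i)))) fun v w => by
      simp only [Pi.add_apply, add_smul, Finset.sum_add_distrib]
  have hψker : ∀ e, ψ e = 1 → e ∈ commutator (Cov π) := fun e he => by
    have hχ : (AddMonoidHom.toMultiplicativeLeft χ).comp ψ = Abelianization.of := by
      refine QuotientGroup.monoidHom_ext _ (FreeGroup.ext_hom _ _ fun i => ?_)
      show Additive.toMul (χ (ψ₀ (FreeGroup.of i)).toAdd) = _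
      rw [FreeGroup.lift_apply_of, toAdd_ofAdd]
      simp [χ, Pi.single_apply]
    rw [← Abelianization.ker_of, MonoidHom.mem_ker, ← hχ, MonoidHom.comp_apply, he, map_one]
  set Z := (covMap π).ker with hZdef
  haveI : IsMulCommutative Z := ⟨⟨fun a b => Subtype.ext
    (mem_center_iff.mp (covMap_ker_le_center π b.2) a.1)⟩⟩
  letI : CommGroup Z := { (inferInstance : Group Z) with
    mul_comm := fun a b => Subtype.ext
      (mem_center_iff.mp (covMap_ker_le_center π b.2) a.1) }
  -- the relators generate
  have hrel : ∀ r : rels, QuotientGroup.mk' (covRel π) (r : FreeGroup (Fin n)) ∈ Z := fun r => by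
    show π r = 1
    exact (QuotientGroup.eq_one_iff _).mpr (subset_normalClosure r.2)
  let w : rels → Additive Z := fun r => Additive.ofMul ⟨_, hrel r⟩
  let f : (rels → ℤ) →ₗ[ℤ] Additive Z := Fintype.linearCombination ℤ w
  have hf : Function.Surjective f := by
    intro z
    let S : Subgroup (Cov π) := ((AddMonoidHom.toMultiplicativeLeft f.toAddMonoidHom).range).map
      Z.subtype
    have hS : S ≤ Z := map_subtype_le _
    haveI : S.Normal := ⟨fun x hx g => by
      rw [mem_center_iff.mp (covMap_ker_le_center π (hS hx)) g, mul_inv_cancel_right]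
      exact hx⟩
    have h1 : π.ker ≤ S.comap (QuotientGroup.mk' (covRel π)) := by
      show (QuotientGroup.mk' (normalClosure (rels : Set (FreeGroup (Fin n))))).ker ≤ _
      rw [QuotientGroup.ker_mk']
      refine normalClosure_le_normal fun r hr => ?_
      refine ⟨⟨_, hrel ⟨r, hr⟩⟩, ⟨Multiplicative.ofAdd (Pi.single ⟨r, hr⟩ 1), ?_⟩, rfl⟩
      show Additive.toMul (f (Pi.single ⟨r, hr⟩ 1)) = _
      simp [f, w, Fintype.linearCombination_apply, Pi.single_apply]
    obtain ⟨e, he⟩ := QuotientGroup.mk'_surjective (covRel π) (Additive.toMul z).1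
    have hek : e ∈ π.ker := by
      have h := (Additive.toMul z).2
      rw [← he] at h
      exact h
    obtain ⟨z', ⟨v, hv⟩, hz'⟩ := h1 hek
    refine ⟨Multiplicative.toAdd v, Additive.toMul.injective (Subtype.ext ?_)⟩
    rw [← he, ← hz', ← hv]
    rfl
  let fl : Additive Z →ₗ[ℤ] (Fin n → ℤ) :=
    (MonoidHom.toAdditiveLeft (ψ.comp Z.subtype)).toIntLinearMap
  let h : (rels → ℤ) →ₗ[ℤ] (Fin n → ℤ) := fl.comp f
  -- the image has full rank
  let N := Nat.card (PresentedGroup (rels : Set (FreeGroup (Fin n))))
  have hN : (N : ℤ) ≠ 0 := Int.natCast_ne_zero.mpr Nat.card_pos.ne'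
  have hpow : ∀ i, QuotientGroup.mk' (covRel π) (FreeGroup.of i) ^ N ∈ Z := fun i => by
    show covMap π (QuotientGroup.mk' (covRel π) (FreeGroup.of i) ^ N) = 1
    rw [map_pow]
    exact pow_card_eq_one'
  let S : (Fin n → ℤ) →ₗ[ℤ] LinearMap.range h := LinearMap.codRestrict _
    ((N : ℤ) • LinearMap.id) fun v => by
      rw [LinearMap.smul_apply, LinearMap.id_apply, ← Finset.univ_sum_single v, Finset.smul_sum]
      refine Submodule.sum_mem _ fun i _ => ?_
      obtain ⟨x, hx⟩ := hf (Additive.ofMul ⟨_, hpow i⟩)
      refine ⟨v i • x, ?_⟩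
      rw [map_smul, LinearMap.comp_apply, hx]
      have e : ψ (QuotientGroup.mk' (covRel π) (FreeGroup.of i) ^ N) =
          Multiplicative.ofAdd ((N : ℤ) • Pi.single i (1 : ℤ)) := by
        rw [map_pow]
        show ψ₀ (FreeGroup.of i) ^ N = _
        rw [FreeGroup.lift_apply_of, ← ofAdd_nsmul, natCast_zsmul]
      show v i • Multiplicative.toAdd (ψ (QuotientGroup.mk' (covRel π) (FreeGroup.of i) ^ N)) = _
      rw [e, toAdd_ofAdd]
      funext j
      simp [Pi.single_apply, mul_comm]
  have hS : Function.Injective S := fun a b hab => by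
    have h1 : (N : ℤ) • a = (N : ℤ) • b := congrArg Subtype.val hab
    exact smul_right_injective _ hN h1
  have hrank : Module.finrank ℤ (LinearMap.ker h) ≤ rels.card - n := by
    have h1 := Submodule.finrank_quotient_add_finrank (R := ℤ) (LinearMap.ker h)
    rw [LinearEquiv.finrank_eq h.quotKerEquivRange, Module.finrank_fintype_fun_eq_card,
      Fintype.card_coe] at h1
    have h2 := LinearMap.finrank_le_finrank_of_injective hS
    rw [Module.finrank_fintype_fun_eq_card, Fintype.card_fin] at h2
    omega
  let b := Module.finBasis ℤ (LinearMap.ker h)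
  -- the kernel maps onto the multiplier
  have hmem : ∀ x : LinearMap.ker h, (Additive.toMul (f x.1)).1 ∈ multSub π := fun x => by
    refine ⟨(Additive.toMul (f x.1)).2, hψker _ ?_⟩
    have h1 : Multiplicative.toAdd (ψ (Additive.toMul (f x.1)).1) = 0 := x.2
    exact Multiplicative.toAdd.injective h1
  let Θ : Multiplicative (LinearMap.ker h) →* multSub π :=
    ((Z.subtype.comp (AddMonoidHom.toMultiplicativeLeft
      (f.comp (LinearMap.ker h).subtype).toAddMonoidHom))).codRestrict _ fun x => hmem x.toAdd
  refine ⟨_, fun i => Θ (Multiplicative.ofAdd (b i)), hrank, eq_top_iff.mpr fun m _ => ?_⟩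
  obtain ⟨x, hx⟩ := hf (Additive.ofMul ⟨m.1, m.2.1⟩)
  have hxk : x ∈ LinearMap.ker h := by
    show fl (f x) = 0
    rw [hx]
    show Multiplicative.toAdd (ψ m.1) = 0
    rw [Abelianization.commutator_subset_ker ψ m.2.2, toAdd_one]
  have hm : Θ (Multiplicative.ofAdd ⟨x, hxk⟩) = m :=
    Subtype.ext (congrArg (fun z : Additive Z => (Additive.toMul z).1) hx)
  rw [← hm]
  have hspan : (⟨x, hxk⟩ : LinearMap.ker h) ∈ AddSubgroup.closure (Set.range b) := by
    rw [← Submodule.span_int_eq_addSubgroupClosure, b.span_eq]
    trivial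
  have key : ∀ y ∈ AddSubgroup.closure (Set.range b), Θ (Multiplicative.ofAdd y) ∈
      closure (Set.range fun i => Θ (Multiplicative.ofAdd (b i))) := by
    intro y hy
    induction hy using AddSubgroup.closure_induction with
    | mem y hy =>
      obtain ⟨i, rfl⟩ := hy
      exact subset_closure ⟨i, rfl⟩
    | zero => rw [ofAdd_zero, map_one]; exact one_mem _
    | add y z _ _ hy hz => rw [ofAdd_add, map_mul]; exact mul_mem hy hz
    | neg y _ hy => rw [ofAdd_neg, map_inv]; exact inv_mem hy
  exact key _ hspan

end CfsgLib.SchurTheory
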